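import Cfsg.Agent.SM.StF

/-! Table facts for `SM/StA`. -/

set_option autoImplicit false
set_option maxRecDepth 100000
set_option synthInstance.maxHeartbeats 400000
set_option synthInstance.maxSize 4000

namespace Cfsg.Agent.SM.SA0

open Subgroup Cfsg.Agent.Comp Cfsg.Agent.X32 Cfsg.Agent.X32.TG Cfsg.Agent.LES Cfsg.Agent.He5
open Cfsg.Agent.Y12 hiding κ ι F0 St f00 f01 gR F2 F3 F4 cx fY

noncomputable def S0 : Subgroup DA := subOf (Z 832) (BD.of (by decide +kernel))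
  fun a b ha => (BD.of (by decide +kernel) : ∀ a : DA, Z 832 a → ∀ b, Z 832 b → Z 832 (a * b)) a ha b

theorem card_S0 : Nat.card S0 = 128 :=
  (card_sub (Z 832) fun _ => Iff.rfl).trans (by decide +kernel)

noncomputable abbrev gS : List DA := es [128, 64, 32, 16, 8, 4, 2, 1]

noncomputable abbrev gI : List DA := es [256, 128, 64, 16, 8, 4, 2, 1]

theorem g1 : (∀ g ∈ gS, Z 768 g) ∧ (∀ g ∈ gI, Z 32 g) ∧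
    (¬ Z 832 aT ∧ ¬ Z 832 (aT * az) ∧ ab * ab = az ∧ (e 44 : DA) * e 44 = av ∧ ¬ Commute ax av) ∧
    (Z 768 aT ∧ Z 768 az ∧ Z 768 (e 44 : DA) ∧ Z 768 ab ∧ Z 768 aS' ∧ Z 768 aq) ∧
    (ax * ax * ax = 1 ∧ Commute ab ax ∧ aS' * aS' = 1 ∧ aS' * ax * aS'⁻¹ = ax⁻¹ ∧ aq * aq = 1 ∧
      (aS' * aq) ^ 4 = az ∧ (ax * aq) ^ 3 = 1 ∧
      BN.ev (tup [ax, aS', aq, ab]) [0, 2, 1, 0, 3, 2, 1, 3] = 1) ∧
    ∀ k : DA, ((∀ g ∈ gS, Commute g k) → k ∈ [1, az, aT, aT * az]) ∧ (Z 832 k → Z 768 k) ∧ Z 32 (k * k) ∧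
      (k * k * k = 1 → k = 1 ∨ ∃ r, Z 768 r ∧ r * k * r⁻¹ = ax) ∧
      (Z 768 k → k * k = az → Commute k ax → Z 32 (ab * k⁻¹)) ∧
      ((∀ g ∈ gI, Commute k g) → Z 32 k ∧ k * k = 1) := BD.of (by decide +kernel)

theorem g2 : ∀ k2 : DA, Z 768 k2 → k2 * k2 = 1 → k2 * ax * k2⁻¹ = ax⁻¹ → ∀ k3, Z 768 k3 → k3 * k3 = 1 →
    (k2 * k3) ^ 4 = az → (ax * k3) ^ 3 = 1 → ∀ k4, Z 768 k4 → k4 * k4 = az → Commute k4 ax →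
    BN.ev (tup [ax, k2, k3, k4]) [0, 2, 1, 0, 3, 2, 1, 3] = 1 → ∃ r ∈ [1, ab], ∃ cs ∈ [0, 1, 64, 65],
    ∃ cb ∈ [0, 1, 64, 65], Z 768 r ∧ r * ax * r⁻¹ = AA cs cb ax ∧ r * k2 * r⁻¹ = AA cs cb aS' ∧
      r * k3 * r⁻¹ = AA cs cb aq ∧ r * k4 * r⁻¹ = AA cs cb ab ∧ r * (aT * az) * r⁻¹ = AA cs cb aT :=
  BD.of (by decide +kernel)

noncomputable abbrev gD : List DA := es [256, 512, 128, 64, 32, 16, 8, 4, 2, 1]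

theorem g3 : ∀ cs ∈ [0, 1, 64, 65], ∀ cb ∈ [0, 1, 64, 65],
    ((∀ g ∈ gD, ∃ W ∈ [[0], [0, 0], [1], [4], [3], [2], [1, 3, 2, 1, 2, 3], [2, 3, 2, 3],
        [0, 0, 2, 3, 2, 0, 3], [3, 3]], BN.ev (tup [ax, aS', aq, ab, aT]) W = g ∧
        BN.ev (tup [AA cs cb ax, AA cs cb aS', AA cs cb aq, AA cs cb ab, AA cs cb aT]) W = AA cs cb g) ∧
      AA cs cb 1 = 1 ∧ ∀ k, True → k = 1 ∨
      ∃ g ∈ gD, True ∧ (g⁻¹ * k).v < k.v ∧ AA cs cb k = AA cs cb g * AA cs cb (g⁻¹ * k)) ∧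
    (AA cs cb (AA cs cb aT) = aT ∧ AA cs cb aT * az * aT = 1) ∧
    ∀ r, Z 768 r → (∀ g ∈ [ax, aS', aq, ab, aT], AA cs cb (AA cs cb g) = r * g * r⁻¹) → AA cs cb r = r →
      (cs = 0 ∨ cs = 1) ∧ (cb = 0 ∨ cb = 1) ∧ (r = 1 ∨ r = az) :=
  BD.of (by decide +kernel)

noncomputable abbrev σ0 (k : DA) : DA := AA 0 64 (AA 0 0 k)

theorem g4 : (σ0 1 = 1 ∧ σ0 aT = aT ∧ σ0 az = az ∧ σ0 aq = aq) ∧ ∀ k : DA,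
    (∀ g ∈ gD, σ0 (g * k) = σ0 g * σ0 k) ∧ (k = 1 ∨ ∃ g ∈ gD, (g * k).v < k.v) ∧ σ0 (σ0 k) = k ∧
    (Z 32 k → σ0 k = k) ∧ (Z 768 k → Z 768 (σ0 k)) ∧ (Z 784 k → Z 784 (σ0 k) ∧ W (σ0 k) = σ0 (W k)) ∧
    ∀ cs ∈ [0, 1], AA cs 1 (σ0 k) = σ0 (AA cs 0 k) := BD.of (by decide +kernel)

noncomputable abbrev AY (j : ℕ) (k : DA) : DA := AA j 0 (W k)

theorem g5 : ∀ j ∈ [0, 1], (AY j (AY j (AY j aT)) = aT ∧ AY j (AY j (AY j az)) = az ∧ AA j 0 aq = aq ∧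
      Z 784 aT ∧ Z 784 az ∧ ∀ g ∈ (es [2, 4, 8, 32, 128] : List DA), Z 784 g) ∧
    ∀ k : DA, AA j 0 (AA j 0 k) = k ∧ (Z 32 k → Z 32 (AA j 0 k)) ∧ (Z 784 k → Z 784 (AY j k)) ∧
      ((∀ g ∈ (es [2, 4, 8, 32, 128] : List DA), k * g * k⁻¹ = AY j (AY j (AY j g))) → Z 784 k ∧
        (AY j k = k → (j = 0 ∧ (k = e 0 ∨ k = e 66)) ∨ (j = 1 ∧ (k = e 12 ∨ k = e 78)))) :=
  BD.of (by decide +kernel)

end Cfsg.Agent.SM.SA0
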