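import Cfsg.Agent.Y12.B2

/-! The analysis of `Y12` without the transfer hypothesis: the wreathed case or the `Co₃` case. -/

set_option autoImplicit false
set_option maxRecDepth 100000
set_option synthInstance.maxHeartbeats 400000
set_option synthInstance.maxSize 4000

namespace Cfsg.Agent.Y13

open Subgroup Cfsg.Agent.Comp Cfsg.Agent.X32 Cfsg.Agent.X32.TG Cfsg.Agent.LES Cfsg.Agent.He5
open Cfsg.Agent.Y12 hiding Base St SA
open scoped Cfsg.Agent.PLocal.Amb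
open Cfsg.Agent.Co3T (B x1 x2 lB z b)

section
variable {G : Type*} [Group G]

structure Base (φ : D →* G) (y : G) : Prop where
  inj : Function.Injective φ
  cD : ∀ g, Commute g (φ de) → Commute g (φ dz) → ∃ k, φ k = g
  nsq : ∀ g, g * g ≠ φ de
  syl : ¬ 2 ∣ (SD.map φ).relIndex (centralizer {φ de})
  y3 : y * y * y = 1
  yt : φ dt * y * (φ dt)⁻¹ = y⁻¹
  ya : ∀ k, Mem mR k → y * φ k * y⁻¹ = φ (lq tY k)
  two_index : 2 ∣ (SD.map φ).relIndex ⊤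

namespace Base
variable {φ : D →* G} {y : G} (H : Base φ y)
include H

theorem not_sq {g r : G} : g * φ de * g⁻¹ ≠ r * r := fun h =>
  H.nsq (g⁻¹ * r * g) (by
    rw [show g⁻¹ * r * g * (g⁻¹ * r * g) = g⁻¹ * (r * r) * g by group, ← h]; group)

theorem ez {g : G} : g * φ de * g⁻¹ ≠ φ dz := by
  rw [← fD.2.2.2.1, map_mul]; exact H.not_sq

omit H in
theorem ce (k : D) : Commute (φ k) (φ de) := (fD.1 k).1.map φ

omit H in
theorem cz (k : D) : Commute (φ k) (φ dz) := (fD.1 k).2.map φ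

omit H in
theorem e2 : φ de * φ de = 1 := Setup.sq fD.2.1

theorem e1 : φ de ≠ 1 := by simpa using H.inj.ne fD.2.2.2.2.2.2.2.2.2.1

theorem z1 : φ dz ≠ 1 := by simpa using H.inj.ne fD.2.2.2.2.2.2.2.2.2.2.1

variable [Finite G]

theorem no5 {u a b c d : G} (hu : IsConj (φ de) u) : ¬ R5 u a b c d := fun h => by
  obtain ⟨g, rfl⟩ := isConj_iff.1 hu
  obtain ⟨a, rfl⟩ := (MulAut.conj g).surjective a
  obtain ⟨b, rfl⟩ := (MulAut.conj g).surjective b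
  obtain ⟨c, rfl⟩ := (MulAut.conj g).surjective c
  obtain ⟨d, rfl⟩ := (MulAut.conj g).surjective d
  have h := (R5.map_iff (MulAut.conj g).toMonoidHom (MulAut.conj g).injective).1 h
  obtain ⟨⟨a1, a2, -⟩, ⟨b1, b2, b3, -⟩, ⟨c1, c2, c3, c4, -⟩, d1, d2, d3, d4, d5, -⟩ := id h
  obtain ⟨m, hm, hx⟩ := conj_into (SD_p.map φ) H.syl (isP_comm (l := [a, b, c, d]) (by
    simp [*, b3.symm, c3.symm, c4.symm, d3.symm, d4.symm, d5.symm])) ((closure_le _).2 (by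
      intro x hx
      simp only [Set.mem_ofPred_eq, List.mem_cons, List.not_mem_nil, or_false] at hx
      rcases hx with rfl | rfl | rfl | rfl <;> exact mem_cent.2 ‹_›))
  obtain ⟨a', ha, ea⟩ := hx a (mem_gr (by simp))
  obtain ⟨b', hb, eb⟩ := hx b (mem_gr (by simp))
  obtain ⟨c', hc, ec⟩ := hx c (mem_gr (by simp))
  obtain ⟨d', hd, ed⟩ := hx d (mem_gr (by simp))
  have h := (R5.map_iff (MulAut.conj m).toMonoidHom (MulAut.conj m).injective).2 h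
  simp only [MulEquiv.coe_toMonoidHom, MulAut.conj_apply, conj_of_comm (mem_cent.1 hm), ← ea, ← eb,
    ← ec, ← ed] at h
  obtain ⟨⟨a1, -, a3⟩, ⟨b1, -, b3, b4⟩, ⟨c1, -, c3, c4, c5⟩, d1, -, d3, d4, d5, d6⟩ :=
    (R5.map_iff φ H.inj).1 h
  exact d6 (f5.2 a' ((f5.1 _ ha a1).resolve_left fun e => a3 (by simp [e])) a3
    b' ((f5.1 _ hb b1).resolve_left fun e => b4 (by simp [e])) b3 b4
    c' ((f5.1 _ hc c1).resolve_left fun e => c5 (by simp [e])) c3 c4 c5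
    d' ((f5.1 _ hd d1).resolve_left fun e => d6 (by simp [e])) d3 d4 d5)

omit [Finite G] in
theorem cen {n : G} (hn : ∀ x ∈ SD.map φ, n⁻¹ * x * n ∈ SD.map φ) {u u' : D}
    (hu : ∀ k, Commute k u) (e : n * φ u * n⁻¹ = φ u') : u' ∈ [1, dz, de, de * dz] :=
  fD.2.2.2.2.2.2.2.2.2.2.2.2.2.2.1 u' fun g hg => (comm_iff H.inj).1 (by
    obtain ⟨k, -, h⟩ := hn _ ⟨g, fD.2.2.2.2.2.2.2.2.2.2.2.2.2.2.2.1 g hg, rfl⟩
    have := cj_comm n ((hu k).symm.map φ)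
    rwa [e, h, show n * (n⁻¹ * φ g * n) * n⁻¹ = φ g by group] at this)

theorem exists_n : ∃ n, n * φ de * n⁻¹ = φ (de * dz) ∧ n * φ dz * n⁻¹ = φ dz ∧
    n * φ db * n⁻¹ = φ db := by
  obtain ⟨-, -, -, -, c1, c2, c3, c4, c5, -, -, c6, c7, c8, -⟩ := fD
  obtain ⟨n, -, h1, h2, h3⟩ := exists_norm (SD_p.map φ) le_top H.two_index H.syl
  obtain ⟨u, -, eu⟩ := h2 _ ⟨de, c1, rfl⟩
  obtain ⟨v, -, ev⟩ := h2 _ ⟨dz, c2, rfl⟩
  obtain ⟨w, hw, ew⟩ := h2 _ ⟨dr', c3, rfl⟩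
  have hu := H.cen h3 (fun k => (fD.1 k).1) eu.symm
  have hv := H.cen h3 (fun k => (fD.1 k).2) ev.symm
  simp only [List.mem_cons, List.not_mem_nil, or_false] at hu hv
  obtain rfl : u = de * dz := by
    rcases hu with rfl | rfl | rfl | rfl
    · exact absurd (conj_eq_one_iff.1 (eu.symm.trans (map_one φ))) H.e1
    · exact absurd eu.symm H.ez
    · exact absurd (mem_cent.2 (X32.comm_of_conj eu.symm)) h1
    · rfl
  obtain rfl : dz = v := by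
    rcases hv with rfl | rfl | rfl | rfl
    · exact absurd (conj_eq_one_iff.1 (ev.symm.trans (map_one φ))) H.z1
    · rfl
    · exact absurd (by rw [ev]; group) (H.ez (g := n⁻¹))
    · exact absurd (cj_inj (eu.symm.trans ev)) (by simpa using H.ez (g := 1))
  have eb : n * φ db * n⁻¹ = φ (w * w) := by rw [← c4, map_mul, map_mul, ew, cj_sq]
  have := fD.2.2.2.2.2.2.2.2.2.2.2.2.2.2.2.2 w hw (H.inj (by
    rw [map_mul, ← eb, conj_sq (Setup.sq c5), map_one]))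
  simp only [List.mem_cons, List.not_mem_nil, or_false] at this
  rcases this with h | h | h | h <;> rw [h] at eb
  · exact absurd (H.inj (by simpa using eb : φ db = φ 1)) c6
  · exact absurd (H.inj (cj_inj (eb.trans ev))) c7
  · exact ⟨n, eu.symm, ev.symm, eb⟩
  · have k : ∀ a c, n * φ a * n⁻¹ = φ c → φ dt * n * φ a * (φ dt * n)⁻¹ = φ (dt * c * dt⁻¹) :=
      fun a c h => by rw [map_mul, map_mul, map_inv, ← h]; group
    exact ⟨φ dt * n, (k _ _ eu.symm).trans (by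
      rw [conj_of_comm ((fD.1 dt).1.mul_right (fD.1 dt).2)]),
      (k _ _ ev.symm).trans (by rw [conj_of_comm (fD.1 dt).2]), (k _ _ eb).trans (by rw [c8])⟩

theorem exists_γ0 : ∃ γ, ∃ s ∈ List.range 8, ∀ k, γ * φ k * γ⁻¹ = φ (A s k) := by
  obtain ⟨n, h1, h2, h3⟩ := H.exists_n
  have h4 : ∀ k, ∃ k', φ k' = n * φ k * n⁻¹ := fun k => by
    have a := h2 ▸ cj_comm n (cz (φ := φ) k)
    have b := (h1 ▸ cj_comm n (ce (φ := φ) k)).mul_right a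
    rw [← map_mul, mul_assoc de, fD.2.2.1, mul_one] at b
    exact H.cD _ b a
  obtain ⟨k1, e1⟩ := h4 dx
  obtain ⟨k2, e2⟩ := h4 dp
  obtain ⟨k3, e3⟩ := h4 dj
  have C : Cq φ φ n [dx, dp, dj] [k1, k2, k3] := .cons e1.symm (.cons e2.symm (.cons e3.symm .nil))
  have one : ∀ W, BN.ev (tup [dx, dp, dj]) W = 1 → BN.ev (tup [k1, k2, k3]) W = 1 := fun W h =>
    H.inj (by rw [← C.ev, h]; simp)
  obtain ⟨⟨a1, a2, a3, a4, a5, a6, a7⟩, -⟩ := fA3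
  obtain ⟨r, -, s, hs, b1, b2, b3, b4⟩ := fA1 k1
    (by simpa [tup, mul_assoc] using one [0, 0, 0] (by simpa [tup, mul_assoc] using a1)) k2
    (by simpa [tup] using one [1, 1] (by simpa [tup] using a2))
    (by simpa [tup, mul_assoc] using one [0, 1, 0, 1] (by simpa [tup, mul_assoc] using a3)) k3
    (by simpa [tup] using one [2, 2] (by simpa [tup] using a4))
    (H.inj (by rw [← C.ev, a5, h2])) (H.inj (by rw [← C.ev, a6, h3])) (one _ a7)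
  have k : ∀ a c d, φ c = n * φ a * n⁻¹ → r * c * r⁻¹ = d → φ r * n * φ a * (φ r * n)⁻¹ = φ d :=
    fun a c d h h' => by rw [← h', map_mul, map_mul, map_inv, h]; group
  exact ⟨φ r * n, s, hs, fun g => Cq.act (.cons (k _ _ _ e1 b1) (.cons (k _ _ _ e2 b2)
    (.cons (k _ _ _ e3 b3) (.cons (k _ _ _ h1.symm b4) .nil)))) (A s) (fun _ => True) _ _
    (fA2 s hs).1 g trivial⟩

theorem exists_γ : ∃ γ s p, (∀ k, γ * φ k * γ⁻¹ = φ (A s k)) ∧ γ * γ = 1 ∧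
    γ * y * (γ * y * (γ * y)) = φ p ∧
    ((s = 1 ∧ (p = e 0 ∨ p = e 289)) ∨ (s = 7 ∧ (p = e 52 ∨ p = e 35))) := by
  obtain ⟨γ, s, hs, h⟩ := H.exists_γ0
  obtain ⟨-, ⟨a1, a2, a3, a4, a5, a6⟩, a7, a8⟩ := fA2 s hs
  have sq : ∀ γ, (∀ k, γ * φ k * γ⁻¹ = φ (A s k)) → ∀ k,
      γ * γ * φ k * (γ * γ)⁻¹ = φ (A s (A s k)) := fun γ h k => by rw [← h, ← h]; group
  obtain ⟨γ, h, h2⟩ : ∃ γ, (∀ k, γ * φ k * γ⁻¹ = φ (A s k)) ∧ γ * γ = 1 := by
    obtain ⟨r, hr⟩ := H.cD (γ * γ) (X32.comm_of_conj (by rw [sq γ h, a1]))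
      (X32.comm_of_conj (by rw [sq γ h, a2]))
    rcases a7 r (fun g _ => H.inj (by rw [← sq γ h, map_mul, map_mul, map_inv, hr]))
      (H.inj (by rw [← h, hr]; group)) with rfl | rfl
    · exact ⟨γ, h, by rw [← hr, map_one]⟩
    · refine ⟨γ * φ de, fun k => ?_, ?_⟩
      · rw [← h]; nth_rewrite 2 [← conj_of_comm (ce (φ := φ) k).symm]; group
      · calc _ = γ * φ de * γ⁻¹ * (γ * γ) * φ de := by group
          _ = φ (A s de * de) * φ dz := by rw [h, ← hr, mul_assoc, (ce dz).eq, map_mul, mul_assoc]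
          _ = 1 := by rw [a3, ← map_mul, fD.2.2.1, map_one]
  have hy : ∀ k, Mem mR k → γ * y * φ k * (γ * y)⁻¹ = φ (AY s k) := fun k hk => by
    rw [← h, ← H.ya k hk]; group
  have h3 : ∀ k, Mem mR k → γ * y * (γ * y * (γ * y)) * φ k * (γ * y * (γ * y * (γ * y)))⁻¹ =
      φ (AY s (AY s (AY s k))) := fun k hk => by
    rw [← hy _ (a6 _ (a6 _ hk)), ← hy _ (a6 _ hk), ← hy _ hk]; group
  obtain ⟨r, hr⟩ := H.cD _ (X32.comm_of_conj ((h3 _ (fA3.2 _ (by simp))).trans (by rw [a4])))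
    (X32.comm_of_conj ((h3 _ (fA3.2 _ (by simp))).trans (by rw [a5])))
  obtain ⟨b1, b2⟩ := a8 r (fun g hg => H.inj (by
    rw [← h3 g (fA3.2 g (by simp only [List.mem_cons] at hg ⊢; tauto)), map_mul, map_mul, map_inv,
      hr])) fun g _ => H.inj (by rw [← sq γ h, h2]; simp)
  exact ⟨γ, s, r, h, h2, hr.symm, b2 (H.inj (by rw [← hy r b1, hr]; group))⟩

end Base

end

section
variable {G : Type*} [Group G] {T : Tab} [Fact T.OK]

structure St (φ : D →* G) (y : G) (ψ : TG T →* G) (ty tx : ℕ) : Prop extends Base φ y where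
  inj1 : Function.Injective ψ
  sk : ∀ k, Z 192 k → ψ k = φ (κ k)
  yq : ∀ k, Z 256 k → y * ψ k * y⁻¹ = ψ (lq ty k)
  xr : ∀ k, Z 136 k → φ dx * ψ k * (φ dx)⁻¹ = ψ (lq tx k)

theorem Base.st [Finite G] {φ : D →* G} {y γ : G} (H : Base φ y) {s ty tx : ℕ} {p : D}
    (h : ∀ k, γ * φ k * γ⁻¹ = φ (A s k)) (h2 : γ * γ = 1) (h3 : γ * y * (γ * y * (γ * y)) = φ p)
    (c : F2 T s p ty tx) : ∃ ψ : TG T →* G, St φ y ψ ty tx := by
  obtain ⟨⟨⟨a0, a1⟩, a2, a3, a4, a5, a6⟩,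
    ⟨b1, b2, b3, b4, b5, b6, b7, b8, b9, b10, b11, b12, b13, b14, b15, b16, b17⟩, c1, c2, c3, c4⟩ := c
  let l0 : List (TG T × G) := gR.map fun u => (u, φ (κ u))
  have k0 : l0.map Prod.fst = gR := by simp [l0, Function.comp_def]
  have k1 : ((e 64, γ) :: l0).map Prod.fst = e 64 :: gR := congrArg (List.cons _) k0
  have k2 : ((e 128, y * γ * y⁻¹) :: (e 64, γ) :: l0).map Prod.fst = e 128 :: e 64 :: gR :=
    congrArg (List.cons _) k1
  have m0 : ∀ k, Z 448 k → (k, φ (κ k)) ∈ gr l0 :=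
    rank_on _ _ gR _ (by rw [a0, map_one]; exact one_mem _) (fun k hk => (a1 k hk).2)
      fun g hg k r ih => by
        simpa [r] using mul_mem (mem_gr (l := l0) (List.mem_map_of_mem hg)) ih
  have f0 : Fn (gr l0) := fun g hg => by
    have := gr_ind (P := fun q : TG T × G => Z 448 q.1 ∧ q.2 = φ (κ q.1)) ⟨a3.1, by simp [a0]⟩
      (fun q hq r hr => by
        obtain ⟨u, hu, rfl⟩ := List.mem_map.1 hq
        exact ⟨((a1 _ hr.1).1 u hu).1, by simp [((a1 _ hr.1).1 u hu).2, hr.2]⟩) _ hg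
    simpa [a0] using this.2
  have yi : y⁻¹ = y * y := inv_eq_of_mul_eq_one_left H.y3
  have yy : ∀ k, Mem mR k → y⁻¹ * φ k * y = φ (Y (Y k)) := fun k hk => by
    rw [← H.ya _ (fY k hk).1, ← H.ya k hk, ← mul_assoc, ← mul_assoc, ← yi]; simp [yi, mul_assoc]
    rw [← yi]; group
  have g3 : y⁻¹ * γ * y = y * γ * y⁻¹ * γ * φ p := by
    calc _ = y * (γ * γ) * y * γ * y := by rw [h2, yi, mul_one]
      _ = y * γ * y⁻¹ * (γ * γ) * y * γ * y * γ * y := by nth_rewrite 2 [h2]; group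
      _ = _ := by rw [← h3]; group
  have f1 := f0.cons (a := e 64) (g := γ) Nat.prime_two (norm_gr fun q hq => by
      obtain ⟨u, hu, rfl⟩ := List.mem_map.1 hq
      simpa [h, ← (a2 u hu).1.2] using m0 _ (a2 u hu).1.1)
    (by rw [Prod.pow_mk, b1, sq, h2]; exact one_mem _) _ k0 a3
  have f2 := f1.cons (a := e 128) (g := y * γ * y⁻¹) Nat.prime_two (norm_gr fun q hq => by
      rcases List.mem_cons.1 hq with rfl | hq
      · have := mul_mem (gr_cons (q := (e 64, γ)) (m0 _ b11.1)) (mem_gr List.mem_cons_self)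
        rw [b11.2, map_mul, map_inv, map_inv, ← yy _ b9, ← h, ← H.ya p b7] at this
        convert this using 1
        refine Prod.ext (by simp) ?_
        have e : y * γ * y⁻¹ * γ = y⁻¹ * γ * y * (φ p)⁻¹ := by rw [g3]; group
        calc y * γ * y⁻¹ * γ * (y * γ * y⁻¹)⁻¹ = y * γ * y⁻¹ * γ * (y * γ * y⁻¹ * γ) * γ := by
              rw [mul_assoc (y * γ * y⁻¹ * γ) _ γ, mul_assoc _ γ γ, h2, mul_one, inv_self (conj_sq h2)]
          _ = _ := by rw [e]; nth_rewrite 2 [← inv_self h2]; simp only [Prod.snd_mul]; group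
      · obtain ⟨u, hu, rfl⟩ := List.mem_map.1 hq
        obtain ⟨-, ⟨d1, d2⟩, -, d3, d4, -⟩ := a2 u hu
        have := gr_cons (q := (e 64, γ)) (m0 _ d1)
        rw [d2, ← H.ya _ d4, ← h, ← yy _ d3] at this
        convert this using 1
        exact Prod.ext rfl (by simp only [Prod.snd_mul, Prod.snd_inv]; group))
    (by rw [Prod.pow_mk, b2, sq, conj_sq h2]; exact one_mem _) _ k1 a4
  have tγ : φ dt * γ * (φ dt)⁻¹ = γ := conj_of_comm (X32.comm_of_conj ((h dt).trans (by rw [b5]))).symm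
  have m3 : ((e 128 * e 64 * ι p : TG T), y⁻¹ * γ * y) ∈
      gr ((e 128, y * γ * y⁻¹) :: (e 64, γ) :: l0) := by
    have := mul_mem (mul_mem (mem_gr (l := (e 128, y * γ * y⁻¹) :: (e 64, γ) :: l0)
      List.mem_cons_self) (gr_cons (mem_gr List.mem_cons_self))) (gr_cons (gr_cons (m0 _ b12.1)))
    rwa [b12.2, Prod.mk_mul_mk, Prod.mk_mul_mk, ← g3] at this
  have f3 := f2.cons (a := e 256) (g := φ dt) Nat.prime_two (norm_gr fun q hq => by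
      rcases List.mem_cons.1 hq with rfl | hq
      · convert m3 using 1
        refine Prod.ext b14 ?_
        calc _ = φ dt * y * (φ dt)⁻¹ * (φ dt * γ * (φ dt)⁻¹) * (φ dt * y * (φ dt)⁻¹)⁻¹ := by
              simp only [Prod.snd_mul, Prod.snd_inv]; group
          _ = _ := by rw [H.yt, tγ, inv_inv]
      rcases List.mem_cons.1 hq with rfl | hq
      · simpa [b13, tγ] using gr_cons (q := (e 128, y * γ * y⁻¹))
          (mem_gr (l := (e 64, γ) :: l0) List.mem_cons_self)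
      · obtain ⟨u, hu, rfl⟩ := List.mem_map.1 hq
        simpa [(a2 u hu).2.2.1.2] using gr_cons (gr_cons (m0 _ (a2 u hu).2.2.1.1)))
    (by rw [Prod.pow_mk, b3, ← map_pow, b4, map_one]; exact one_mem _) _
    k2 a5
  obtain ⟨ψ, hψ⟩ := f3.hom fun k => gr_dom _ (by exact congrArg (List.cons _) k2) a6 k trivial
  have r0 : ∀ k, Z 448 k → ψ k = φ (κ k) := fun k hk => hψ _ _ (gr_cons (gr_cons (gr_cons (m0 k hk))))
  have r1 : ψ (e 64) = γ := hψ _ _ (mem_gr (by simp))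
  have r2 : ψ (e 128) = y * γ * y⁻¹ := hψ _ _ (mem_gr (by simp))
  have r3 : ψ (e 256) = φ dt := hψ _ _ (mem_gr (by simp))
  have sk : ∀ k, Z 192 k → ψ k = φ (κ k) := fun k hk => ((c1 k).1 hk).elim (r0 k) fun d => by
    rw [d.2, map_mul, ← r0 _ d.1, ← r3, ← map_mul, inv_mul_cancel_right]
  refine ⟨ψ, H, (injective_iff_map_eq_one ψ).2 fun k hk => ?_, sk,
    act_rank _ _ _ (fun g hg => ?_) c2, act_rank _ _ _ (fun g hg => ?_) c4⟩
  · obtain ⟨-, d1, d2, d3, d4⟩ := c1 k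
    have := d3 (H.inj (by rw [← sk _ d1, ← sk _ d2]; simp [hk]))
    exact d4 this (H.inj (by rw [← sk _ this, hk, map_one]))
  · rcases List.mem_cons.1 hg with rfl | hg
    · rw [b16, hψ _ _ (gr_cons m3), r2, yi]; simp only [mul_assoc]; rw [← yi]; group
    rcases List.mem_cons.1 hg with rfl | hg
    · rw [b15, r1, r2]
    · obtain ⟨-, -, -, d1, -, d2, d3, d4⟩ := a2 g hg
      rw [r0 _ d2, r0 _ d3, d4, H.ya _ d1]
  · rcases List.mem_cons.1 hg with rfl | hg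
    · rw [b17, r1]
      exact conj_of_comm (X32.comm_of_conj ((h dx).trans (by rw [b6]))).symm
    · rw [sk _ (c3 g hg).1, sk _ (c3 g hg).2.1, (c3 g hg).2.2, map_mul, map_mul, map_inv]

namespace St
variable {φ : D →* G} {y : G} {ψ : TG T →* G} {ty tx : ℕ} (H : St φ y ψ ty tx)
include H

theorem ee (c : F0 T) : ψ (e 32) = φ de := by rw [H.sk _ c.1.1, c.1.2]
theorem zz (c : F0 T) : ψ (e 1) = φ dz := by rw [H.sk _ c.2.1.1, c.2.1.2]

theorem cube {gb : TG T} {L : List (TG T)} (c0 : F0 T) (c : F3 tx gb L) :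
    ∃ ρ ∈ L, ψ gb * φ dx * (ψ gb * φ dx * (ψ gb * φ dx)) = ψ ρ := by
  obtain ⟨a1, a2, ⟨a3, a4⟩, a5, a6⟩ := c
  have h1 : ∀ k, Z 136 k → ψ gb * φ dx * ψ k * (ψ gb * φ dx)⁻¹ = ψ (cx tx gb k) := fun k hk => by
    rw [map_mul, map_mul, map_inv, ← H.xr k hk]; group
  have h3 : ∀ k, Z 136 k → ψ gb * φ dx * (ψ gb * φ dx * (ψ gb * φ dx)) * ψ k *
      (ψ gb * φ dx * (ψ gb * φ dx * (ψ gb * φ dx)))⁻¹ = ψ (cx tx gb (cx tx gb (cx tx gb k))) :=
    fun k hk => by rw [← h1 _ (a1 _ (a1 _ hk)), ← h1 _ (a1 _ hk), ← h1 _ hk]; group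
  obtain ⟨d, hd⟩ := H.cD _ (H.ee c0 ▸ X32.comm_of_conj ((h3 _ (a2 _ (by simp [es]))).trans (by rw [a3])))
    (H.zz c0 ▸ X32.comm_of_conj ((h3 _ (a2 _ (by simp [es]))).trans (by rw [a4])))
  obtain ⟨b1, b2, b3⟩ := a6 d fun g hg => H.inj (by
    rw [← H.sk _ (a5 g hg).2, ← h3 g (a2 g (by simp only [es, List.map, List.mem_cons] at hg ⊢; tauto)),
      H.sk _ (a5 g hg).1, ← hd, map_mul, map_mul, map_inv])
  have e : ψ (ι d) = φ d := by rw [H.sk _ b1, b2]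
  exact ⟨_, b3 (H.inj1 (by rw [← h3 _ (a2 _ (by simp [es])), ← hd, map_mul, map_mul, map_inv, e])),
    hd.symm.trans e.symm⟩

omit H in
theorem xi : (φ dx)⁻¹ = φ dx * φ dx := inv_eq_of_mul_eq_one_left (by
  rw [← map_mul, ← map_mul, fA3.1.1, map_one])

theorem ga {gb ρ : TG T} {ta : ℕ} (c0 : F0 T) (c : F4 tx ta gb ρ)
    (h : ψ gb * φ dx * (ψ gb * φ dx * (ψ gb * φ dx)) = ψ ρ) (k : TG T) :
    φ dx * ψ gb * (φ dx)⁻¹ * ψ k * (φ dx * ψ gb * (φ dx)⁻¹)⁻¹ = ψ (lq ta k) := by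
  obtain ⟨a1, ⟨a2, a3, a4, a5, a6⟩, a7, a8, a9, a10⟩ := c
  have xx : ∀ k, Z 136 k → (φ dx)⁻¹ * ψ k * φ dx = ψ (lq tx (lq tx k : TG T)) := fun k hk => by
    rw [← H.xr _ ((a1 k).1 hk).1, ← H.xr k hk, ← mul_assoc, ← mul_assoc, ← xi, mul_assoc _ _ (φ dx)⁻¹,
      ← mul_inv_rev, ← xi, inv_inv]
  have tx' : ψ (e 30) * φ dx * (ψ (e 30))⁻¹ = (φ dx)⁻¹ := by
    rw [H.sk _ c0.2.2.2.1.1, c0.2.2.2.1.2, ← map_inv, ← map_inv, ← map_mul, ← map_mul]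
    exact congrArg φ (BD.of (by decide +kernel))
  have c1 : Commute (ψ gb) (ψ ρ) := (a1 gb).2.1.map ψ
  have c2 : Commute (φ dx) (ψ ρ) := X32.comm_of_conj (by rw [H.xr _ a3, a4])
  have r2 : ψ ρ * ψ ρ = 1 := Setup.sq a2
  generalize hγ : ψ gb = γ at h c1 ⊢
  generalize hx : φ dx = x at h c2 xx tx' ⊢
  have xi : x⁻¹ = x * x := hx ▸ xi
  have e1 : x⁻¹ * γ * x = (x * γ * x⁻¹)⁻¹ * γ⁻¹ * ψ ρ := by
    rw [← h]
    calc _ = x * (x * x)⁻¹ * γ * x := by group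
      _ = _ := by rw [← xi]; group
  have e2 : x * γ * x⁻¹ * γ * (x * γ * x⁻¹) = γ⁻¹ * (ψ (lq tx (lq tx (gb * gb) : TG T)))⁻¹ := by
    have c3 : Commute ((x * γ * x⁻¹)⁻¹ * γ⁻¹) (ψ ρ) :=
      ((c2.mul_left c1).mul_left c2.inv_left).inv_left.mul_left c1.inv_left
    rw [← xx _ a5, map_mul, hγ, show x⁻¹ * (γ * γ) * x = x⁻¹ * γ * x * (x⁻¹ * γ * x) by group, e1,
      mul_assoc _ (ψ ρ), ← mul_assoc (ψ ρ), ← c3.eq, mul_assoc _ (ψ ρ), r2]
    group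
  have g1 : x * γ * x⁻¹ * ψ gb * (x * γ * x⁻¹)⁻¹ = ψ (lq ta gb) := by
    rw [a9, map_mul, map_mul, map_inv, map_inv, map_inv, hγ, ← e2, ← H.xr _ a5, hx, map_mul, hγ]
    group
  have g2 : x * γ * x⁻¹ * ψ (e 30) * (x * γ * x⁻¹)⁻¹ = ψ (lq ta (e 30 : TG T)) := by
    rw [a10, map_mul, map_mul, map_mul, map_mul, map_inv, map_inv, map_inv, hγ, mul_assoc (ψ ρ), ← e2,
      ← xx _ a6, map_mul, map_mul, map_mul, map_inv, map_inv, hγ]
    calc _ = x * γ * x⁻¹ * (x⁻¹ * γ * x)⁻¹ * (x⁻¹ * γ * x) * (ψ (e 30) * x * (ψ (e 30))⁻¹ * ψ (e 30) *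
          γ⁻¹ * (ψ (e 30))⁻¹ * (ψ (e 30) * x * (ψ (e 30))⁻¹)⁻¹ * ψ (e 30)) := by group
      _ = x * γ * x⁻¹ * (ψ ρ)⁻¹ * γ * (x * γ * x⁻¹) * (x⁻¹ * γ * x) * (x⁻¹ * ψ (e 30) *
          γ⁻¹ * (ψ (e 30))⁻¹ * x * ψ (e 30)) := by nth_rewrite 1 [e1]; rw [tx']; group
      _ = _ := by
        rw [inv_self r2, ((c2.mul_left c1).mul_left c2.inv_left).eq]; group
  obtain ⟨b1, -, w, hw, b2, b3⟩ := a1 k
  have g3 : x * γ * x⁻¹ * ψ w * (x * γ * x⁻¹)⁻¹ = ψ (lq ta w) := by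
    simp only [List.mem_cons, List.not_mem_nil, or_false] at hw
    rcases hw with rfl | rfl | rfl | rfl
    · simp [a7]
    · exact g2
    · exact g1
    · rw [a8, map_mul, map_mul, ← g1, ← g2]; group
  rw [b3, map_mul, ← g3, ← H.xr _ ((a1 _).1 ((a1 _).1 ((a1 _).1 b2).1).1).2, map_mul, map_mul, map_inv,
    ← xx _ b2, map_mul, map_inv, hγ, hx]
  group

end St

end

section
variable {G : Type*} [Group G] [Finite G] {T : Tab} [Fact T.OK]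

namespace Base
variable {φ : D →* G} {y : G} (H : Base φ y)
include H

theorem conjE : ∀ k ∈ [de, de * dz, Y (de * dz), Y (Y (de * dz))], IsConj (φ de) (φ k) := by
  obtain ⟨n, h, -⟩ := H.exists_n
  have h1 := isConj_iff.2 ⟨n, h⟩
  have h2 := h1.trans (isConj_iff.2 ⟨y, H.ya _ fZ2.2.1⟩)
  simpa only [List.forall_mem_cons, List.not_mem_nil, false_imp_iff, implies_true, and_true] using
    ⟨IsConj.refl _, h1, h2, h2.trans (isConj_iff.2 ⟨y, H.ya _ fZ2.2.2⟩)⟩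

omit [Finite G] in
theorem ez' : ¬ IsConj (φ de) (φ dz) := fun h => (isConj_iff.1 h).elim fun _ => H.ez

end Base

namespace St
variable {φ : D →* G} {y : G} {ψ : TG T →* G} {ty tx : ℕ} (H : St φ y ψ ty tx)
include H

omit [Finite G] in
theorem bb (c : F0 T) : ψ (e 2) = φ db := by rw [H.sk _ c.2.2.1.1, c.2.2.1.2]

omit [Finite G] in
theorem inS (c0 : F0 T) (c : F5 T) {g : G} (h1 : Commute g (ψ (e 32))) (h2 : Commute g (ψ (e 1)))
    (h3 : g * ψ (e 2) * g⁻¹ = ψ (e 2) ∨ g * ψ (e 2) * g⁻¹ = ψ (e 3)) : ∃ k, Z 192 k ∧ ψ k = g := by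
  obtain ⟨d, rfl⟩ := H.cD g (H.ee c0 ▸ h1) (H.zz c0 ▸ h2)
  rw [c.2.1, map_mul, H.bb c0, H.zz c0, ← map_inv, ← map_mul, ← map_mul, ← map_mul] at h3
  obtain ⟨a, b⟩ := c.1 d (h3.imp (fun e => H.inj e) fun e => H.inj e)
  exact ⟨_, a, by rw [H.sk _ a, b]⟩

omit [Finite G] in
theorem inV (c0 : F0 T) (c : F5 T) {g : G}
    (h : ∀ u ∈ (es [1, 2, 4, 8, 16, 32, 64, 128] : List (TG T)), Commute g (ψ u)) :
    ∃ k, Z 508 k ∧ ψ k = g := by
  obtain ⟨k, -, rfl⟩ := H.inS c0 c (h _ (by simp [es])) (h _ (by simp [es]))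
    (.inl (conj_of_comm (h _ (by simp [es]))))
  exact ⟨k, c.2.2 k fun u hu => (comm_iff H.inj1).1 (h u (List.mem_cons_of_mem _ hu)), rfl⟩

end St

end

section
variable {G : Type*} [Group G] [Finite G] {φ : D →* G} {y g : G} {ψ : K0 →* G} {ta tw : ℕ}

structure SA (φ : D →* G) (y : G) (ψ : K0 →* G) (g : G) (ta tw : ℕ) : Prop
    extends St φ y ψ ty0 tx0 where
  ga : ∀ k, g * ψ k * g⁻¹ = ψ (lq ta k)
  g2 : g * g = 1
  fa : FA ta tw
  fb : FB tw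

namespace SA
variable (H : SA φ y ψ g ta tw)
include H

omit [Finite G] in
theorem zF {i : ℕ} (hi : i ∈ List.range 16) {q k : K0} (hq : Z 256 q) (hk : Z 256 k) :
    Z 256 (Fq tw i q k) := zq hq ((H.fa.2.1 i hi).1 k hk) (Q0.inv_mem hq)

omit [Finite G] in
theorem real : ∀ i ∈ List.range 16, ∃ h, ∀ k, Z 256 k → h * ψ k * h⁻¹ = ψ (Wi tw i k) := by
  have zy := fun k => (fK0.1.1 k).1
  have yi : y⁻¹ = y * y := inv_eq_of_mul_eq_one_left H.y3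
  have yy : ∀ k, Z 256 k → y⁻¹ * ψ k * y = ψ (yq (yq k)) := fun k hk => by
    rw [← H.yq _ (zy k hk), ← H.yq k hk, ← mul_assoc, ← mul_assoc, ← yi, mul_assoc _ _ y⁻¹,
      ← mul_inv_rev, ← yi, inv_inv]
  have base : ∀ i ∈ [0, 1, 2, 4, 8], ∃ h, ∀ k, Z 256 k → h * ψ k * h⁻¹ = ψ (Wi tw i k) := by
    have a := H.fa.1
    simp only [List.forall_mem_cons, List.not_mem_nil, false_imp_iff, implies_true, and_true]
    refine ⟨⟨1, fun k hk => by simp [(a k hk).1]⟩, ⟨g, fun k hk => by rw [(a k hk).2.1, H.ga]⟩,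
      ⟨y * g * y⁻¹, fun k hk => ?_⟩, ⟨y⁻¹ * g * y, fun k hk => ?_⟩, ψ (e 256), fun k hk => by
        rw [(a k hk).2.2.2.2.1, map_mul, map_mul, map_inv]⟩
    · rw [(a k hk).2.2.1, ← H.yq _ (a _ (zy _ (zy _ hk))).2.2.2.2.2, ← H.ga, ← yy k hk]; group
    · rw [(a k hk).2.2.2.1, ← yy _ (a _ (zy _ hk)).2.2.2.2.2, ← H.ga, ← H.yq k hk]; group
  intro i
  induction i using Nat.strong_induction_on with
  | _ i ih =>
    intro hi
    rcases (H.fa.2.1 i hi).2.1 with h | ⟨j, hj, l, hl, h⟩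
    · exact base i h
    · have hl' := List.mem_range.2 ((List.mem_range.1 hl).trans (List.mem_range.1 hi))
      obtain ⟨u, hu⟩ := base j hj
      obtain ⟨v, hv⟩ := ih l (List.mem_range.1 hl) hl'
      exact ⟨u * v, fun k hk => by
        rw [h k hk, ← hu _ ((H.fa.2.1 l hl').1 k hk), ← hv k hk]; group⟩

noncomputable def P1 : Subgroup G :=
  subOf (fun u => ∃ i ∈ List.range 16, ∃ q, Z 256 q ∧ Ac ψ tw i q u)
    ⟨0, by simp, 1, fK0.1.2.2.1, fun k hk => by simp [(H.fa.1 k hk).1]⟩ (by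
      rintro a b ⟨i, hi, q, hq, ha⟩ ⟨j, hj, q', hq', hb⟩
      obtain ⟨l, hl, r, -, hr, h⟩ := (H.fa.2.1 i hi).2.2 j hj
      refine ⟨l, hl, q * Wi tw i q' * r, zq hq ((H.fa.2.1 i hi).1 _ hq') hr, fun k hk => ?_⟩
      calc _ = a * (b * ψ k * b⁻¹) * a⁻¹ := by group
        _ = a * ψ q' * a⁻¹ * (a * ψ (Wi tw j k) * a⁻¹) * (a * ψ q' * a⁻¹)⁻¹ := by
          rw [hb k hk, map_mul, map_mul, map_inv]; group
        _ = _ := by
          rw [ha _ hq', ha _ ((H.fa.2.1 j hj).1 k hk), Fq, Fq, h k hk, ← map_inv, ← map_mul, ← map_mul]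
          congr 1; simp only [Fq]; group)

theorem real' {i : ℕ} (hi : i ∈ List.range 16) {q : K0} (hq : Z 256 q) :
    ∃ u ∈ H.P1, Ac ψ tw i q u := by
  obtain ⟨h, e⟩ := H.real i hi
  have : Ac ψ tw i q (ψ q * h) := fun k hk => by rw [map_mul, map_mul, map_inv, ← e k hk]; group
  exact ⟨_, ⟨i, hi, q, hq, this⟩, this⟩

theorem memψ (k : K0) : ψ k ∈ H.P1 := by
  rcases (fK0.1.1 k).2.1 with h | h
  · exact ⟨0, by simp, k, h, fun u hu => by simp [(H.fa.1 u hu).1]⟩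
  · exact ⟨8, by simp, _, h, fun u hu => by simp [(H.fa.1 u hu).2.2.2.2.1, mul_assoc]⟩

theorem memg : g ∈ H.P1 :=
  ⟨1, by simp, 1, fK0.1.2.2.1, fun u hu => by simp [(H.fa.1 u hu).2.1, H.ga]⟩

omit H [Finite G] in
theorem zg {n : ℕ} (h : n ∈ [1, 2, 4, 8, 16, 32, 64, 128] := by decide) : Z 256 (e n : K0) :=
  fK0.1.2.1 _ (List.mem_map_of_mem h)

theorem le_L : H.P1 ≤ LL ψ := by
  rintro u ⟨i, hi, q, hq, h⟩
  obtain ⟨a, b, -⟩ := H.fa.2.2.2 i hi q hq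
  exact ⟨X32.comm_of_conj ((h _ zg).trans (by rw [a])),
    b.imp (fun e => by rw [h _ zg, e]) fun e => by rw [h _ zg, e]⟩

theorem inR {n : G} (hn : n ∈ LL ψ) (h : Commute n (ψ (e 32))) : n ∈ H.P1 := by
  obtain ⟨k, -, rfl⟩ := H.inS f00 f50 h hn.1 hn.2
  exact H.memψ k

theorem P1_p : IsPGroup 2 H.P1 := by
  rintro ⟨u, i, hi, q, hq, h⟩
  have sq : ∀ {u : G} {f : K0 → K0}, (∀ k, Z 256 k → u * ψ k * u⁻¹ = ψ (f k) ∧ Z 256 (f k)) →
      ∀ k, Z 256 k → u * u * ψ k * (u * u)⁻¹ = ψ (f (f k)) ∧ Z 256 (f (f k)) := fun h k hk =>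
    ⟨by rw [← (h _ (h k hk).2).1, ← (h k hk).1]; group, (h _ (h k hk).2).2⟩
  have h8 := sq (sq (sq fun k hk => ⟨h k hk, H.zF hi hq hk⟩))
  have c := (H.fa.2.2.2 i hi q hq).2.2.1
  obtain ⟨k, -, e⟩ := H.inS f00 f50
    (X32.comm_of_conj ((h8 _ zg).1.trans (congrArg ψ (c _ (by simp [es])))))
    (X32.comm_of_conj ((h8 _ zg).1.trans (congrArg ψ (c _ (by simp [es])))))
    (.inl ((h8 _ zg).1.trans (congrArg ψ (c _ (by simp [es])))))
  refine ⟨6, Subtype.ext ?_⟩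
  have := congrArg ψ (fK0.1.1 k).2.2.2.2.2
  rw [map_pow, e, map_one] at this
  rw [coe_pow, OneMemClass.coe_one, ← this]
  simp only [← pow_two, ← pow_mul]; rfl

theorem nV {v : K0} (hv : Mem mV2 v) : ¬ IsConj (φ de) (ψ v) := fun h => by
  rcases fV2 v hv with rfl | ⟨a, -, b, -, c, -, d, -, r⟩
  · exact H.e1 (by simpa using h)
  · exact H.no5 h ((R5.map_iff ψ H.inj1).2 r)

theorem nV2 {u : G} (hu : IsConj (φ de) u) (h1 : Commute u (ψ (e 1))) (h2 : Commute u (ψ (e 2)))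
    (h3 : Commute u (ψ (e 64))) (h4 : Commute u (ψ (e 128))) : False := by
  obtain ⟨⟨-, -, -, m⟩, a, b, c, d, -⟩ := fK0
  have m' : ∀ n ∈ [1, 2, 64, 128], ψ (e n) ∈ V2.map ψ := fun n hn =>
    ⟨_, m _ (List.mem_map_of_mem hn), rfl⟩
  refine H.no5 hu (R5.of_sub (H := V2.map ψ) (by rintro ⟨v, hv, rfl⟩; exact H.nV hv hu)
    (m' 1 (by simp)) (m' 2 (by simp)) (m' 64 (by simp)) (m' 128 (by simp)) ?_ ?_ ?_ ?_) <;>
  simp only [h1.symm, h2.symm, h3.symm, h4.symm, true_and, comm_iff H.inj1, ← map_mul, ne_eq,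
    List.mem_cons, List.not_mem_nil, H.inj1.eq_iff, map_eq_one_iff ψ H.inj1] at *
  exacts [a, b, ⟨c.1, c.2.1, c.2.2.1, c.2.2.2.1⟩, d]

omit [Finite G] in
theorem sq1 {u : G} {i : ℕ} {q : K0} (hi : i ∈ List.range 16) (hq : Z 256 q) (h : Ac ψ tw i q u)
    (u2 : u * u = 1) {k : K0} (hk : Z 256 k) : Fq2 tw i q k = k := H.inj1 (by
  rw [← h _ (H.zF hi hq hk), ← h k hk, ← mul_assoc, ← mul_assoc, u2, mul_assoc, ← mul_inv_rev, u2]
  simp)

theorem lemN : ¬ 2 ∣ H.P1.relIndex (LL ψ) := fun hi => by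
  obtain ⟨n, hn, h1, h2, -⟩ := exists_norm (L := H.P1) H.P1_p H.le_L hi (by simp)
  have ee := H.ee f00
  obtain ⟨i, hi, q, hq, h⟩ := h2 _ (H.memψ (e 32))
  have u2 : n * ψ (e 32) * n⁻¹ * (n * ψ (e 32) * n⁻¹) = 1 := conj_sq (ee ▸ Base.e2)
  have cu : IsConj (φ de) (n * ψ (e 32) * n⁻¹) := isConj_iff.2 ⟨n, by rw [ee]⟩
  have c1 : Commute (n * ψ (e 32) * n⁻¹) (ψ (e 1)) := (H.le_L ⟨i, hi, q, hq, h⟩).1
  have c2 : Commute (n * ψ (e 32) * n⁻¹) (ψ (e 2)) := by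
    have := cj_comm n ((BD.of (by decide +kernel) : Commute (e 32 : K0) (e 2)).map ψ)
    rcases hn.2 with e | e <;> rw [e] at this
    · exact this
    · rw [fK0.2.2.2.2.2.2.1, map_mul]; exact this.mul_right c1
  have hc := fun a b => H.nV2 cu c1 c2 a b
  rcases ((H.fa.2.2.2 i hi q hq).2.2.2 fun k hk => H.sq1 hi hq h u2 (fK0.1.2.1 k hk)).1
    (H.inj1 ((h _ zg).symm.trans (conj_of_comm c2))) with ⟨a, b⟩ | rfl
  · exact hc (X32.comm_of_conj ((h _ zg).trans (by rw [a])))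
      (X32.comm_of_conj ((h _ zg).trans (by rw [b])))
  obtain ⟨v, hv, e⟩ := H.inV f00 f50 (g := (ψ q)⁻¹ * (n * ψ (e 32) * n⁻¹)) fun u hu =>
    X32.comm_of_conj (by
      have := h u (fK0.1.2.1 u hu)
      rw [Fq, (H.fa.1 u (fK0.1.2.1 u hu)).1, map_mul, map_mul, map_inv] at this
      rw [mul_inv_rev, mul_assoc, mul_assoc, ← mul_assoc (ψ u), ← mul_assoc _ (ψ u * _), ← mul_assoc _ (ψ u),
        this]; group)
  have e' : n * ψ (TG.e 32) * n⁻¹ = ψ (q * v) := by rw [map_mul, e]; group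
  rw [e'] at u2 hc
  rcases (H.fa.2.2.1 (q * v)).1 (Q0.mul_mem hq ((fK0.1.1 v).2.2.2.1 hv))
    (H.inj1 (by rw [map_mul, u2, map_one])) with ⟨a, b⟩ | ⟨j, hj, r, -, hr, a⟩
  · exact hc (a.map ψ) (b.map ψ)
  obtain ⟨w, hw, b⟩ := H.real' hj hr
  refine h1 ((H.P1.mul_mem_cancel_left hw).1 (H.inR (mul_mem (H.le_L hw) hn) (X32.comm_of_conj ?_)))
  nth_rewrite 2 [← a]
  rw [← b _ (Q0.mul_mem hq ((fK0.1.1 v).2.2.2.1 hv)), ← e']; group

theorem fin {u : G} (hu : u ∈ H.P1) (cu : IsConj (φ de) u) (c3 : Commute u (ψ (e 64))) : False := by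
  have c1 := (H.le_L hu).1
  obtain ⟨i, hi, q, hq, h⟩ := hu
  have u2 : u * u = 1 := by obtain ⟨n, rfl⟩ := isConj_iff.1 cu; exact conj_sq Base.e2
  rcases ((H.fa.2.2.2 i hi q hq).2.2.2 fun k hk => H.sq1 hi hq h u2 (fK0.1.2.1 k hk)).2
    (H.inj1 ((h _ zg).symm.trans (conj_of_comm c3))) with
    ⟨a, b⟩ | ⟨a1, v, -, a2, c, -, ⟨a3, a4, a5⟩, a6, a7⟩
  · exact H.nV2 cu c1 (X32.comm_of_conj ((h _ zg).trans (by rw [a]))) c3
      (X32.comm_of_conj ((h _ zg).trans (by rw [b])))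
  obtain ⟨v0, hv, ev⟩ := H.inV f00 f50 (g := (ψ v * g * u)⁻¹ * (u * g)) fun k hk =>
    X32.comm_of_conj (by
      have z1 := fK0.1.2.1 k hk
      calc _ = (ψ v * g * u)⁻¹ * (u * (g * ψ k * g⁻¹) * u⁻¹) * (ψ v * g * u) := by group
        _ = _ := by
          rw [H.ga, h _ (H.fa.1 k z1).2.2.2.2.2, a2 k hk, map_mul, map_mul, map_inv, ← H.ga, ← h k z1]
          group)
  obtain ⟨⟨b1, b2, b3⟩, b4⟩ := a7 v0 hv
  have e1 : u * g * u⁻¹ = ψ (v * Fq tw i q v0) * g := by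
    rw [map_mul, ← b3, ← H.ga, ← h _ b1, ev]; group
  obtain ⟨w, -, ⟨d1, d2⟩, d3, d4, d5⟩ := b4 (H.inj1 (by
    rw [map_mul, ← h _ b2, map_one, ← mul_left_inj g, mul_assoc _ _ g, ← e1, one_mul]
    calc _ = u * (ψ (v * Fq tw i q v0) * g) * u⁻¹ := by group
      _ = u * u * g * (u * u)⁻¹ := by rw [← e1]; group
      _ = _ := by rw [u2]; group))
  have hd : ∀ a, ψ w * g * ψ a * (ψ w * g)⁻¹ = ψ (w * lq ta a * w⁻¹) := fun a => by
    rw [map_mul, map_mul, map_inv, ← H.ga]; group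
  have cd : ∀ a ∈ [e 1, e 2, e 64, c], Commute (ψ w * g) (ψ a) := fun a ha =>
    X32.comm_of_conj (by rw [hd, d4 a ha])
  obtain ⟨-, a, b, c', -⟩ := fK0
  refine H.no5 cu (R5.of_sub (H := centralizer {ψ (e 2)}) (a := ψ (e 1)) (b := ψ (e 64)) (c := ψ c)
    (d := ψ w * g) (fun e => a1 (H.inj1 ((h _ zg).symm.trans (conj_of_comm (mem_cent.1 e)))))
    (mem_cent.2 (b.2.1.symm.map ψ)) (mem_cent.2 (c'.2.2.1.map ψ)) (mem_cent.2 (a6.2.2.2.1.map ψ))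
    (mem_cent.2 (cd _ (by simp))) ?_ ?_ ?_ ⟨?_, ?_, cd _ (by simp), cd _ (by simp), cd _ (by simp),
      fun hm => ?_⟩)
  iterate 3
    have c4 : Commute u (ψ c) := X32.comm_of_conj ((h _ a3).trans (by rw [a4]))
    simp only [c1.symm, c3.symm, c4.symm, true_and, comm_iff H.inj1, ← map_mul, ne_eq,
      List.mem_cons, List.not_mem_nil, H.inj1.eq_iff, map_eq_one_iff ψ H.inj1] at a b c' a6 ⊢
    tauto
  · rw [← mul_one (ψ w * g * (ψ w * g)), ← mul_inv_cancel g]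
    calc _ = ψ w * (g * ψ w * g⁻¹) * (g * g) * g * g⁻¹ := by group
      _ = _ := by rw [H.g2, H.ga, ← map_mul, d3, map_one, one_mul, one_mul]
  · refine (X32.comm_of_conj ?_).symm
    calc _ = u * ψ w * u⁻¹ * (u * g * u⁻¹) := by group
      _ = _ := by rw [h _ d1, e1, ← mul_assoc, ← map_mul, d2]
  · obtain ⟨a, ha, e⟩ : ∃ a ∈ [1, e 1, e 64, e 64 * e 1, c, c * e 1, c * e 64, c * e 64 * e 1],
        ψ a = ψ w * g := by simpa [eq_comm] using hm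
    exact d5 a ha (H.inj1 (by rw [← hd, ← e, map_mul, map_mul, map_inv]))

end SA

theorem Base.red (H : Base φ y) : (∃ ψ g ta tw, SA φ y ψ g ta tw) ∨
    ∃ ψ : TG (TK bt3 tt3) →* G, St φ y ψ ty3 tx3 ∧
    ∃ ρ ∈ [e 0, e 1], ψ (e 136) * φ dx * (ψ (e 136) * φ dx * (ψ (e 136) * φ dx)) = ψ ρ := by
  obtain ⟨γ, s, p, h1, h2, h3, ⟨rfl, rfl | rfl⟩ | ⟨rfl, rfl | rfl⟩⟩ := H.exists_γ
  · obtain ⟨ψ, S⟩ := H.st h1 h2 h3 f20
    obtain ⟨ρ, hρ, h⟩ := S.cube f00 f30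
    obtain ⟨-, -, -, -, -, -, -, -, -, a, b, -⟩ := fK0
    have g2 : φ dx * ψ (e 128) * (φ dx)⁻¹ * (φ dx * ψ (e 128) * (φ dx)⁻¹) = 1 := by
      rw [cj_sq, ← map_mul, S.xr _ b, a, map_one]
    simp only [List.mem_cons, List.not_mem_nil, or_false] at hρ
    rcases hρ with rfl | rfl
    · exact .inl ⟨_, _, _, _, S, S.ga f00 f400 h, g2, fa0, fb0⟩
    · exact .inl ⟨_, _, _, _, S, S.ga f00 f401 h, g2, fa1, fb1⟩
  · obtain ⟨ψ, S⟩ := H.st h1 h2 h3 f21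
    exact absurd (S.cube f01 f31) (by simp)
  · obtain ⟨ψ, S⟩ := H.st h1 h2 h3 f22
    exact absurd (S.cube f02 f32) (by simp)
  · obtain ⟨ψ, S⟩ := H.st h1 h2 h3 f23
    exact .inr ⟨ψ, S, S.cube f03 f33⟩

end

section
variable {G : Type*} [Group G] [Finite G] {φ : D →* G} {y g : G} {ψ : Y12.K3 →* G} {th tj ta : ℕ}
  {g1 g2 g3 : B}

theorem St.exB (H : St φ y ψ ty3 tx3) (ga : ∀ k, g * ψ k * g⁻¹ = ψ (lq ta k))
    (gg : g * g = ψ (lq tx3 (e 136 * e 136 : Y12.K3))) (c : FB1 th tj ta g1 g2 g3) :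
    ∃ χ : B →* G, Function.Injective χ ∧ (∀ k, χ (θ th k) = ψ k) ∧ χ g1 = g := by
  obtain ⟨⟨a0, a1⟩, a2, ⟨v1, v2, v3, v4, v5, v6, v7⟩, ⟨b1, b2, b3, b4, b5, ⟨-, b6, b7⟩, b8, b9⟩,
    ⟨c1, c2, c3, c4⟩, a3⟩ := c
  let l0 : List (B × G) := g3Q.map fun u => (θ th u, ψ u)
  have k0 : l0.map Prod.fst = g3Q.map (θ th) := by simp [l0, Function.comp_def]
  have m0 : ∀ k, Z 256 k → (θ th k, ψ k) ∈ gr l0 :=
    rank_on _ _ g3Q _ (by rw [a0, map_one]; exact one_mem _) (fun k hk => ((a1 k).1 hk).2.1)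
      fun u hu k r ih => by
        simpa [r] using mul_mem (mem_gr (l := l0) (List.mem_map_of_mem hu)) ih
  have f0 : Fn (gr l0) := fun n hn => by
    obtain ⟨k, hk, e⟩ := gr_ind (P := fun q : B × G => ∃ k, Z 256 k ∧ q = (θ th k, ψ k))
      ⟨1, BD.of (by decide +kernel), by simp [a0, Prod.ext_iff]⟩ (fun q hq r ⟨k, hk, e⟩ => by
        obtain ⟨u, hu, rfl⟩ := List.mem_map.1 hq
        exact ⟨_, (((a1 k).1 hk).1 u hu).1, by simp [(((a1 k).1 hk).1 u hu).2, e]⟩) _ hn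
    rw [(Prod.mk.inj e).2, ((a1 k).1 hk).2.2.1 (Prod.mk.inj e).1.symm, map_one]
  let Δ := normalizer (gr l0 : Set (B × G))
  have inΔ : ∀ {a n}, (∀ u ∈ g3Q, ∃ k, Z 256 k ∧ a * θ th u * a⁻¹ = θ th k ∧ n * ψ u * n⁻¹ = ψ k) →
      (a, n) ∈ Δ := fun h => norm_gr fun q hq => by
    obtain ⟨u, hu, rfl⟩ := List.mem_map.1 hq
    obtain ⟨k, d1, d2, d3⟩ := h u hu
    simpa [d2, d3] using m0 k d1
  have cjΔ : ∀ {p}, p ∈ Δ → ∀ q ∈ gr l0, p * q * p⁻¹ ∈ gr l0 := fun hp q hq =>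
    (mem_normalizer_iff.1 hp q).1 hq
  have cen : ∀ {a n}, (a, n) ∈ Δ → ∀ v, Z 256 v → Commute a (θ th v) → Commute n (ψ v) :=
    fun h v hv c => X32.comm_of_conj (f0.eq (by simpa [conj_of_comm c] using cjΔ h _ (m0 v hv)) (m0 v hv))
  have ker : ∀ {n}, ((1 : B), n) ∈ Δ → ∃ v, Z 508 v ∧ ψ v = n := fun h =>
    H.inV f03 f53 fun u hu => cen h u ((BD.of (by decide +kernel) :
      ∀ u ∈ (es [1, 2, 4, 8, 16, 32, 64, 128] : List Y12.K3), Z 256 u) u hu) (Commute.one_left _)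
  have uniq : ∀ {a n n'}, (a, n) ∈ Δ → (a, n') ∈ Δ → n ^ 3 = 1 → n' ^ 3 = 1 →
      (∀ v, Z 508 v → Commute a (θ th v)) → n = n' := fun {a n n'} h h' d d' c => by
    obtain ⟨v, hv, e⟩ := ker (n := n⁻¹ * n') (by simpa using mul_mem (inv_mem h) h')
    obtain ⟨d1, d2, -⟩ := (a1 v).2.2 hv
    obtain rfl : n * ψ v = n' := by rw [e]; group
    rw [(cen h v d1 (c v hv)).mul_pow, d, one_mul, pow_succ, sq, ← map_mul, d2, map_one, one_mul] at d'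
    rw [d', mul_one]
  have lift : ∀ {a}, a ∈ Δ.map (MonoidHom.fst _ _) → a ^ 3 = 1 → ∃ n, (a, n) ∈ Δ ∧ n ^ 3 = 1 := by
    rintro _ ⟨⟨a, n⟩, h, rfl⟩ (d : a ^ 3 = 1)
    obtain ⟨v, hv, e⟩ := ker (n := n ^ 3) (by simpa [d] using pow_mem h 3)
    refine ⟨n ^ 4, by simpa [pow_succ a 3, d] using pow_mem h 4, ?_⟩
    rw [← pow_mul, mul_comm, pow_mul, ← e, ← map_pow, show 4 = 2 * 2 from rfl, pow_mul, sq v,
      ((a1 v).2.2 hv).2.1, one_pow, map_one]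
  have zy := fun k hk => ((a1 k).1 hk).2.2.2.1
  have za := fun k hk => ((a1 k).1 hk).2.2.2.2
  have yi : y⁻¹ = y * y := inv_eq_of_mul_eq_one_left H.y3
  have yy : ∀ k, Z 256 k → y⁻¹ * ψ k * y = ψ (y3 (y3 k)) := fun k hk => by
    rw [← H.yq _ (zy k hk), ← H.yq k hk, ← mul_assoc, ← mul_assoc, ← yi, mul_assoc _ _ y⁻¹,
      ← mul_inv_rev, ← yi, inv_inv]
  have d0 : (θ th (e 256), ψ (e 256)) ∈ Δ :=
    inΔ fun u hu => ⟨_, (a2 u hu).2.1.1, (a2 u hu).2.1.2, by simp⟩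
  have d1 : (g1, g) ∈ Δ := inΔ fun u hu => ⟨_, za _ (a2 u hu).1, (a2 u hu).2.2.1, ga u⟩
  have d2 : (g2, y * g * y⁻¹) ∈ Δ := inΔ fun u hu => by
    have z := zy _ (zy _ (a2 u hu).1)
    refine ⟨_, zy _ (za _ z), (a2 u hu).2.2.2.1, ?_⟩
    rw [← H.yq _ (za _ z), ← ga, ← yy _ (a2 u hu).1]; group
  have d3 : (g3, y⁻¹ * g * y) ∈ Δ := inΔ fun u hu => by
    have z := za _ (zy _ (a2 u hu).1)
    refine ⟨_, zy _ (zy _ z), (a2 u hu).2.2.2.2, ?_⟩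
    rw [← yy _ z, ← ga, ← H.yq _ (a2 u hu).1]; group
  have mΔ : ∀ {W c}, Via th tj [g1, g2, g3] W c → c ∈ Δ.map (MonoidHom.fst _ _) := fun h =>
    h.mem (fun k hk => ⟨_, le_normalizer (m0 k hk), rfl⟩) (by
      simpa only [List.forall_mem_cons, List.not_mem_nil, false_imp_iff, implies_true, and_true] using
        ⟨⟨_, d1, rfl⟩, ⟨_, d2, rfl⟩, _, d3, rfl⟩)
  obtain ⟨X1, e1, o1⟩ := lift (mΔ v1) b1
  obtain ⟨X2, e2, o2⟩ := lift (mΔ v2) b2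
  have cV := fun c hc v hv => ((a1 v).2.2 hv).2.2 c hc
  have f1 := f0.cons Nat.prime_three e1 (by rw [Prod.pow_mk, b1, o1]; exact one_mem _) _ k0 c1
  have k1 : ((x1, X1) :: l0).map Prod.fst = x1 :: g3Q.map (θ th) := congrArg (List.cons _) k0
  have f2 := f1.cons (a := x2) (g := X2) Nat.prime_three (norm_gr fun q hq => by
      rcases List.mem_cons.1 hq with rfl | hq
      · have := uniq (n := X2 * X1 * X2⁻¹) (by simpa [b3] using mul_mem (mul_mem e2 e1) (inv_mem e2))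
          e1 (by rw [conj_pow, o1]; group) o1 (cV _ (by simp))
        simpa [b3, this] using mem_gr List.mem_cons_self
      · exact gr_cons (cjΔ e2 _ (mem_gr hq)))
    (by rw [Prod.pow_mk, b2, o2]; exact one_mem _) _ k1 c2
  have k2 : ((x2, X2) :: (x1, X1) :: l0).map Prod.fst = x2 :: x1 :: g3Q.map (θ th) :=
    congrArg (List.cons _) k1
  have le2 : gr ((x2, X2) :: (x1, X1) :: l0) ≤ Δ := (closure_le _).2 fun p hp => by
    rcases List.mem_cons.1 hp with rfl | hp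
    · exact e2
    rcases List.mem_cons.1 hp with rfl | hp
    exacts [e1, le_normalizer (mem_gr hp)]
  have nrm : ∀ {a n x X W}, (a, n) ∈ Δ → (x, X) ∈ Δ → x ^ 3 = 1 → X ^ 3 = 1 →
      Via th tj [x2, x1] W (a * x * a⁻¹) → (∀ v, Z 508 v → Commute (a * x * a⁻¹) (θ th v)) →
      (a, n) * (x, X) * (a, n)⁻¹ ∈ gr ((x2, X2) :: (x1, X1) :: l0) := fun {a n x X W} h h' d d' v c => by
    obtain ⟨⟨_, m⟩, hm, rfl⟩ := v.mem (J := (gr ((x2, X2) :: (x1, X1) :: l0)).map (MonoidHom.fst _ _))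
      (fun k hk => ⟨_, gr_cons (gr_cons (m0 k hk)), rfl⟩) (by
      simpa only [List.forall_mem_cons, List.not_mem_nil, false_imp_iff, implies_true, and_true] using
        ⟨⟨_, mem_gr List.mem_cons_self, rfl⟩, _, gr_cons (mem_gr List.mem_cons_self), rfl⟩)
    have := uniq (le2 hm) (mul_mem (mul_mem h h') (inv_mem h))
      (f2 _ (by simpa [conj_pow, d] using pow_mem hm 3)) (by simp [conj_pow, d']) c
    rwa [this] at hm
  have n2 : ∀ {a n W W'}, (a, n) ∈ Δ → Via th tj [x2, x1] W (a * x1 * a⁻¹) →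
      Via th tj [x2, x1] W' (a * x2 * a⁻¹) → (∀ v, Z 508 v → Commute (a * x1 * a⁻¹) (θ th v)) →
      (∀ v, Z 508 v → Commute (a * x2 * a⁻¹) (θ th v)) → ∀ q ∈ (x2, X2) :: (x1, X1) :: l0,
      (a, n) * q * (a, n)⁻¹ ∈ gr ((x2, X2) :: (x1, X1) :: l0) := fun h v v' c c' q hq => by
    rcases List.mem_cons.1 hq with rfl | hq
    · exact nrm h e2 b2 o2 v' c'
    rcases List.mem_cons.1 hq with rfl | hq
    exacts [nrm h e1 b1 o1 v c, gr_cons (gr_cons (cjΔ h _ (mem_gr hq)))]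
  have f3 := f2.cons Nat.prime_two (norm_gr (n2 d0 v3 v4 (cV _ (by simp)) (cV _ (by simp))))
    (by rw [Prod.pow_mk, b5, ← map_pow, b4, map_one]; exact one_mem _) _ k2 c3
  have f4 := f3.cons (a := g1) (g := g) Nat.prime_two (norm_gr fun q hq => by
      rcases List.mem_cons.1 hq with rfl | hq
      · simpa [b9, ga] using mul_mem (gr_cons (gr_cons (gr_cons (m0 _ b8))))
          (mem_gr (l := (θ th (e 256), ψ (e 256)) :: (x2, X2) :: (x1, X1) :: l0) List.mem_cons_self)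
      · exact gr_cons (n2 d1 v5 v6 (cV _ (by simp)) (cV _ (by simp)) q hq))
    (by rw [Prod.pow_mk, b7, sq, gg]; exact gr_cons (gr_cons (gr_cons (m0 _ b6)))) _
    (by exact congrArg (List.cons _) k2) c4
  obtain ⟨χ, hχ⟩ := f4.hom fun k => by
    obtain ⟨q, hq, rfl⟩ := range_le_of_gen (φ := MonoidHom.id B) Co3T.topB
      (M := (gr ((g1, g) :: (θ th (e 256), ψ (e 256)) :: (x2, X2) :: (x1, X1) :: l0)).map
        (MonoidHom.fst _ _)) (fun j hj => by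
        obtain ⟨W, -, h⟩ := v7 (tup lB j) (by simp [tup, hj])
        refine h.mem (fun k hk => ⟨_, gr_cons (gr_cons (gr_cons (gr_cons (m0 k hk)))), rfl⟩) ?_
        simp only [List.forall_mem_cons, List.not_mem_nil, false_imp_iff, implies_true, and_true]
        exact ⟨⟨(g1, g), mem_gr (by simp), rfl⟩, ⟨(θ th (e 256), ψ (e 256)), mem_gr (by simp), rfl⟩,
          ⟨(x2, X2), mem_gr (by simp), rfl⟩, (x1, X1), mem_gr (by simp), rfl⟩) k
    exact ⟨q.2, hq⟩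
  have r0 : ∀ k, Z 256 k → χ (θ th k) = ψ k := fun k hk =>
    hχ _ _ (gr_cons (gr_cons (gr_cons (gr_cons (m0 k hk)))))
  have r1 : ∀ c : B, c.v < 256 → χ c = 1 → c = 1 := fun c hc h => by
    obtain ⟨d, d'⟩ := (a3 c).1 hc
    rw [← d', r0 _ d, map_eq_one_iff ψ H.inj1] at h
    rw [← d', h, a0]
  refine ⟨χ, (injective_iff_map_eq_one χ).2 fun c h => r1 c ((a3 c).2.2 fun u hu => ?_) h,
    fun k => (a1 k).2.1.elim (r0 k) fun d => ?_, hχ _ _ (mem_gr (by simp))⟩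
  · obtain ⟨d, d'⟩ := (a3 _).1 ((a3 c).2.1 u hu).2
    rw [← d', H.inj1 (a₁ := lq tj _) (a₂ := u) (by rw [← r0 _ d, d', ← r0 _ (a2 u hu).1]; simp [h])]
  · rw [d.2, map_mul, r0 _ d.1, hχ _ (ψ (e 256)) (mem_gr (by simp)), ← map_mul, inv_mul_cancel_right]

end

variable {G : Type*} [Group G] [Finite G]

theorem St.ib {φ : D →* G} {y : G} {ψ : Y12.K3 →* G} (H : St φ y ψ ty3 tx3) {th tj ta : ℕ}
    {g1 g2 g3 t1 t2 : B} {ρ k1 : Y12.K3} {ws : List (List ℕ)}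
    (h : ψ (e 136) * φ dx * (ψ (e 136) * φ dx * (ψ (e 136) * φ dx)) = ψ ρ)
    (c4 : F4 tx3 ta (e 136) ρ) (c1 : FB1 th tj ta g1 g2 g3) (c2 : FB2 th g1 t1 t2 ρ k1 ws) :
    ∃ (χ : B →* G) (u : G), IB χ u ∧ χ e' = φ de := by
  obtain ⟨χ, inj, hθ, hg⟩ := H.exB (H.ga f03 c4 h)
    (by rw [cj_sq, ← map_mul, H.xr _ c1.2.2.2.1.2.2.2.2.2.1.1]) c1
  obtain ⟨a1, a2, ⟨a3, a4, a5, a6, a7⟩, a8, a9⟩ := c2
  have ee : χ e' = φ de := by rw [← a3, hθ, H.ee f03]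
  have zz : χ z = φ dz := by rw [← a4, hθ, H.zz f03]
  have bb : χ b = φ db := by rw [← a5, hθ, H.bb f03]
  have rg : ∀ d, Z 192 (ι d : Y12.K3) ∧ κ (ι d : Y12.K3) = d → χ (θ th (ι d)) = φ d := fun d h => by
    rw [hθ, H.sk _ h.1, h.2]
  have hx := Cq.act (φ := χ) (φ' := χ) (n := φ dx) (.cons (by rw [hθ, hg]) (.cons (by
      rw [map_mul, map_mul, map_inv, map_inv, hθ, hθ, hg, ← h]
      calc _ = φ dx * φ dx * ψ (e 136) * (φ dx * φ dx)⁻¹ := by group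
        _ = _ := by rw [← St.xi (φ := φ), inv_inv]; nth_rewrite 1 [St.xi]; group) (fun i => by
      by_cases hi : i < 7
      · have := H.xr _ (fDx.2.2.2.2 (tup (es [32, 1, 2, 4, 16, 256, 64]) i) (by
          interval_cases i <;> simp [tup, es]))
        rw [← hθ, ← hθ] at this
        interval_cases i <;> exact this
      · simp [tup, es, not_lt.1 hi]))) _ _ _ _ a1
  refine ⟨χ, χ t1 * φ dx * χ t2, ⟨inj, fun k hk => ?_, fun c h1 h2 h3 => ?_, fun c h1 h2 => ?_,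
    by rw [ee, zz]; exact H.ez', ?_, fun w h1 h2 => ?_⟩, ee⟩
  · have := hx _ (a2 k hk)
    simp only [mul_assoc, inv_mul_cancel_left, inv_mul_cancel, mul_one, map_mul, map_inv] at this
    rw [← mul_left_inj (χ t1), ← mul_right_inj (χ t1)⁻¹, ← this]; group
  · obtain ⟨d, rfl⟩ := H.cD c (ee ▸ h1) (zz ▸ h2)
    refine ⟨_, rg d (h3.elim (fun h => f53.1 d (.inl (conj_of_comm ((comm_iff H.inj).1 (bb ▸ h)))))
      fun h => a8 d ((comm_iff H.inj).1 ?_))⟩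
    rwa [← a6, hθ, H.sk _ a7] at h
  · obtain ⟨d, rfl⟩ := H.cD c (ee ▸ h1) (zz ▸ h2)
    have mχ : ∀ k, χ k ∈ χ.range ⊔ zpowers (χ t1 * φ dx * χ t2) := fun k => mem_sup_left ⟨k, rfl⟩
    have mx : φ dx ∈ χ.range ⊔ zpowers (χ t1 * φ dx * χ t2) :=
      (mul_mem_cancel_left (mχ t1)).1 ((mul_mem_cancel_right (mχ t2)).1 (mem_sup_right (mem_zpowers _)))
    obtain ⟨i, hi, h⟩ := fDx.1 d
    refine (mul_mem_cancel_right (x := φ i) ?_).1 (by rw [← map_mul, ← rg _ h]; exact mχ _)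
    simp only [List.mem_cons, List.not_mem_nil, or_false] at hi
    rcases hi with rfl | rfl | rfl <;> simp [mx, mul_mem]
  · rw [zz, bb, ← fDx.2.2.1]; exact isConj_iff.2 ⟨y, H.ya _ fDx.2.2.2.1⟩
  · obtain ⟨m, hm, k, hk, e⟩ := Setup.conj_inv SD_p H.syl (mem_cent.2 (ee ▸ h1)) (j := 1)
      (by simpa [sq] using h2)
    exact ⟨m, ee ▸ mem_cent.1 hm, _, a9 _, e.trans (rg k (fDx.2.1 k hk)).symm⟩

theorem Base.alt {φ : D →* G} {y : G} (H : Base φ y) : (∃ ψ g ta tw, SA φ y ψ g ta tw) ∨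
    ∃ (χ : B →* G) (u : G), IB χ u ∧ χ e' = φ de := by
  refine H.red.imp id fun ⟨ψ, S, ρ, hρ, h⟩ => ?_
  simp only [List.mem_cons, List.not_mem_nil, or_false] at hρ
  rcases hρ with rfl | rfl
  exacts [S.ib h f430 fb10 fb20, S.ib h f431 fb11 fb21]

/-- `C(e, z) = φ(D) × O` with `O` of odd order, and `O²(G) = G` -/
structure GB (φ : D →* G) (y : G) (O : Subgroup G) : Prop where
  inj : Function.Injective φ
  odd : Odd (Nat.card O)
  cO : ∀ o ∈ O, (∀ k, Commute o (φ k)) ∧ Commute o y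
  cN : ∀ g, Commute g (φ de) → g ∈ normalizer (O : Set G)
  cD : ∀ g, Commute g (φ de) → Commute g (φ dz) → ∃ k, ∃ o ∈ O, g = φ k * o
  dO : ∀ k, φ k ∈ O → k = 1
  nsq : ∀ g, g * g ≠ φ de
  syl : ¬ 2 ∣ (SD.map φ).relIndex (centralizer {φ de})
  y3 : y * y * y = 1
  yt : φ dt * y * (φ dt)⁻¹ = y⁻¹
  ya : ∀ k, Mem mR k → y * φ k * y⁻¹ = φ (lq tY k)
  tr : ∀ M : Subgroup G, M.Normal → M.index = 2 → φ de ∈ M

/-- the wreathed case, lifted to `G` -/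
structure SG (φ : D →* G) (y : G) (O : Subgroup G) (ψ : K0 →* G) (g : G) (ta tw : ℕ)
    (P : Subgroup G) : Prop extends GB φ y O where
  inj1 : Function.Injective ψ
  sk : ∀ k, Z 192 k → ψ k = φ (κ k)
  ga : ∀ k, g * ψ k * g⁻¹ = ψ (lq ta k)
  g2 : g * g = 1
  fa : FA ta tw
  fb : FB tw
  pP : IsPGroup 2 P
  memψ : ∀ k, ψ k ∈ P
  memg : g ∈ P
  act : ∀ u ∈ P, ∃ i ∈ List.range 16, ∃ q, Z 256 q ∧ Ac ψ tw i q u
  real : ∀ i ∈ List.range 16, ∀ q, Z 256 q → ∃ u ∈ P, Ac ψ tw i q u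

omit [Finite G] in
instance normalCO (O : Subgroup G) : (O.subgroupOf (centralizer (O : Set G))).Normal :=
  ⟨fun n hn g => by
    rw [show g * n * g⁻¹ = n from Subtype.ext (by
      rw [coe_mul, coe_mul, ← g.2 n hn, coe_inv, mul_inv_cancel_right])]
    exact hn⟩

/-- `C(O) / Z(O)` -/
abbrev QO (O : Subgroup G) := centralizer (O : Set G) ⧸ O.subgroupOf (centralizer (O : Set G))

end Cfsg.Agent.Y13
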