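import Cfsg.Agent.SM.AS

/-! Table facts for the construction of `S*`. -/

set_option autoImplicit false
set_option maxRecDepth 100000
set_option synthInstance.maxHeartbeats 400000
set_option synthInstance.maxSize 4000

namespace Cfsg.Agent.SM

open Subgroup Cfsg.Agent.Comp Cfsg.Agent.X32 Cfsg.Agent.X32.TG Cfsg.Agent.LES Cfsg.Agent.He5
open Cfsg.Agent.Y12 hiding κ ι F0 St f00 f01 gR F2 F3 F4 cx fY

variable {G : Type*} [Group G] {T : Tab} [Fact T.OK]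

noncomputable abbrev gR : List (TG T) := es [64, 32, 16, 8, 4, 2, 1]

theorem fY : ∀ k : DA, Z 784 k → Z 784 (W k) ∧ W (W (W k)) = k := BD.of (by decide +kernel)

/-- the analogue of `Y12.F2` for the tables `TU` -/
abbrev F2 (T : Tab) [Fact T.OK] (j : ℕ) (p : DA) (ty : ℕ) : Prop :=
  ((κ (1 : TG T) = 1 ∧ ∀ k : TG T, Z 896 k → (∀ u ∈ gR, Z 896 (u * k) ∧ κ (u * k) = κ u * κ k) ∧
      (k = 1 ∨ ∃ g ∈ gR, Z 896 (g⁻¹ * k) ∧ (g⁻¹ * k).v < k.v ∧ κ k = κ g * κ (g⁻¹ * k))) ∧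
    (∀ u ∈ (gR : List (TG T)),
      (Z 896 (e 128 * u * (e 128)⁻¹) ∧ κ (e 128 * u * (e 128)⁻¹) = AA j 0 (κ u)) ∧
      (Z 896 (e 256 * u * (e 256)⁻¹) ∧ κ (e 256 * u * (e 256)⁻¹) = W (AA j 0 (W (W (κ u))))) ∧
      (Z 896 (e 512 * u * (e 512)⁻¹) ∧ κ (e 512 * u * (e 512)⁻¹) = aq * κ u * aq⁻¹) ∧
      Z 784 (κ u) ∧ Z 784 (AA j 0 (W (W (κ u)))) ∧ Z 896 u ∧ Z 896 (lq ty u : TG T) ∧
        κ (lq ty u : TG T) = W (κ u)) ∧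
    (Z 896 (1 : TG T) ∧ ¬ Z 896 (e 128 : TG T) ∧ ∀ k : TG T, Z 896 k → ∀ u ∈ gR, Z 896 (u * k)) ∧
    (Z 768 (1 : TG T) ∧ ¬ Z 768 (e 256 : TG T) ∧
      ∀ k : TG T, Z 768 k → ∀ u ∈ e 128 :: gR, Z 768 (u * k)) ∧
    (Z 512 (1 : TG T) ∧ ¬ Z 512 (e 512 : TG T) ∧
      ∀ k : TG T, Z 512 k → ∀ u ∈ e 256 :: e 128 :: gR, Z 512 (u * k)) ∧
    ∀ k : TG T, True → k = 1 ∨
      ∃ g ∈ e 512 :: e 256 :: e 128 :: gR, True ∧ (g⁻¹ * k).v < k.v ∧ True) ∧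
  ((e 128 : TG T) ^ 2 = 1 ∧ (e 256 : TG T) ^ 2 = 1 ∧ (e 512 : TG T) ^ 2 = 1 ∧ aq ^ 2 = 1 ∧
    AA j 0 aq = aq ∧ AA j 0 ax = ax ∧ Z 784 p ∧ Z 784 (W p) ∧ Z 784 (AA j 0 (W p)) ∧
    Z 784 (W (AA j 0 (W p))) ∧ (Z 896 (e 256 * e 128 * (e 256)⁻¹ * (e 128)⁻¹ : TG T) ∧
      κ (e 256 * e 128 * (e 256)⁻¹ * (e 128)⁻¹ : TG T) = (W (W (AA j 0 (W p))))⁻¹ * p⁻¹) ∧
    (Z 896 (ι p : TG T) ∧ κ (ι p : TG T) = p) ∧ (e 512 * e 128 * (e 512)⁻¹ : TG T) = e 128 ∧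
    (e 512 * e 256 * (e 512)⁻¹ : TG T) = e 256 * e 128 * ι p ∧ (lq ty (e 128 : TG T) : TG T) = e 256 ∧
    (lq ty (e 256 : TG T) : TG T) = e 256 * e 128 * ι p ∧ X (e 128 : TG T) = e 128) ∧
  (∀ k : TG T, (Z 384 k → Z 896 k ∨ (Z 896 (k * (e 512)⁻¹) ∧ κ k = κ (k * (e 512)⁻¹) * aq)) ∧
    Z 384 (k * e 64 * k⁻¹) ∧ Z 384 (e 64 : TG T) ∧ (κ (k * e 64 * k⁻¹) = κ (e 64 : TG T) → Z 384 k) ∧
    (Z 384 k → κ k = 1 → k = 1)) ∧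
  (lq ty (1 : TG T) = (1 : TG T) ∧ ∀ k : TG T, Z 512 k → k = 1 ∨
    ∃ g ∈ e 256 :: e 128 :: gR, Z 512 (g⁻¹ * k) ∧ (g⁻¹ * k).v < k.v ∧
      (lq ty k : TG T) = lq ty g * lq ty (g⁻¹ * k)) ∧
  (∀ u ∈ (es [512, 64, 32, 8, 4, 2, 1] : List (TG T)), Z 384 u ∧ Z 384 (X u) ∧
    κ (X u) = ax * κ u * ax⁻¹) ∧
  X (1 : TG T) = 1 ∧ ∀ k : TG T, Z 272 k → k = 1 ∨
    ∃ g ∈ e 128 :: es [512, 64, 32, 8, 4, 2, 1], Z 272 (g⁻¹ * k) ∧ (g⁻¹ * k).v < k.v ∧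
      X k = X g * X (g⁻¹ * k)

theorem f20 : F2 (TU ub0 ut0) 0 (e 0) uy0 := BD.of (by decide +kernel)
theorem f21 : F2 (TU ub1 ut1) 0 (e 66) uy1 := BD.of (by decide +kernel)
theorem f22 : F2 (TU ub2 ut2) 1 (e 12) uy2 := BD.of (by decide +kernel)
theorem f23 : F2 (TU ub3 ut3) 1 (e 78) uy3 := BD.of (by decide +kernel)

noncomputable abbrev cx (gb k : TG T) : TG T := gb * X k * gb⁻¹

/-- the analogue of `Y12.F0` -/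
abbrev F1 (T : Tab) [Fact T.OK] : Prop :=
  (Z 384 (e 64 : TG T) ∧ κ (e 64 : TG T) = aT) ∧ (Z 384 (e 1 : TG T) ∧ κ (e 1 : TG T) = az) ∧
  (Z 384 (e 32 : TG T) ∧ κ (e 32 : TG T) = ab) ∧ (Z 384 (e 16 : TG T) ∧ κ (e 16 : TG T) = aS') ∧
  Z 384 (e 512 : TG T) ∧ κ (e 512 : TG T) = aq

/-- the analogue of `Y12.F3` -/
abbrev F3 (gb : TG T) (L : List (TG T)) : Prop :=
  (∀ k, Z 272 k → Z 272 (cx gb k)) ∧
  (∀ g ∈ (es [64, 1, 2, 4, 8, 32, 512, 128] : List (TG T)), Z 272 g) ∧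
  (cx gb (cx gb (cx gb (e 64))) = e 64 ∧ cx gb (cx gb (cx gb (e 1))) = e 1) ∧
  (∀ g ∈ (es [2, 4, 8, 32, 512] : List (TG T)), Z 384 g ∧ Z 384 (cx gb (cx gb (cx gb g)))) ∧
  ∀ d : DA, (∀ g ∈ (es [2, 4, 8, 32, 512] : List (TG T)),
    d * κ g * d⁻¹ = κ (cx gb (cx gb (cx gb g)))) → Z 384 (ι d : TG T) ∧ κ (ι d : TG T) = d ∧
    Z 272 (ι d : TG T) ∧ (cx gb (ι d) = ι d → ι d ∈ L)

theorem f1U0 : F1 (TU ub0 ut0) := BD.of (by decide +kernel)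
theorem f1U1 : F1 (TU ub1 ut1) := BD.of (by decide +kernel)
theorem f1U2 : F1 (TU ub2 ut2) := BD.of (by decide +kernel)
theorem f1U3 : F1 (TU ub3 ut3) := BD.of (by decide +kernel)
theorem f30 : F3 (T := TU ub0 ut0) (e 256) [e 0, e 1] := BD.of (by decide +kernel)
theorem f31 : F3 (T := TU ub1 ut1) (e 352) [e 0, e 1] := BD.of (by decide +kernel)
theorem f32 : F3 (T := TU ub2 ut2) (e 272) [] := BD.of (by decide +kernel)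
theorem f33 : F3 (T := TU ub3 ut3) (e 272) [] := BD.of (by decide +kernel)

/-- the analogue of `Y12.F4` -/
abbrev F4 (ta : ℕ) (gb ρ : TG T) : Prop :=
  (∀ k : TG T, (Z 272 k → Z 272 (X k) ∧ Z 272 (gb * k * gb⁻¹)) ∧ Commute k ρ ∧
    ∃ w ∈ [1, e 16, gb, gb * e 16], Z 272 (k * w⁻¹) ∧
      (lq ta k : TG T) = X (gb * X (X (k * w⁻¹)) * gb⁻¹) * lq ta w) ∧
  (ρ * ρ = 1 ∧ Z 272 ρ ∧ X ρ = ρ ∧ Z 272 (gb * gb) ∧ Z 272 (e 16 * gb * (e 16)⁻¹ * gb⁻¹)) ∧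
  (lq ta (1 : TG T) : TG T) = 1 ∧ (lq ta (gb * e 16) : TG T) = lq ta gb * lq ta (e 16 : TG T) ∧
  lq ta gb = gb⁻¹ * (X (X (gb * gb)))⁻¹ * (X (gb * gb))⁻¹ ∧
  lq ta (e 16 : TG T) = ρ * gb⁻¹ * (X (X (gb * gb)))⁻¹ *
    (X (X (e 16 * gb * (e 16)⁻¹ * gb⁻¹)))⁻¹ * e 16

theorem f400 : F4 (T := TU ub0 ut0) ua00 (e 256) (e 0) := BD.of (by decide +kernel)
theorem f401 : F4 (T := TU ub0 ut0) ua01 (e 256) (e 1) := BD.of (by decide +kernel)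
theorem f410 : F4 (T := TU ub1 ut1) ua10 (e 352) (e 0) := BD.of (by decide +kernel)
theorem f411 : F4 (T := TU ub1 ut1) ua11 (e 352) (e 1) := BD.of (by decide +kernel)

/-- `c gb⁻¹ s` inverts `gb x` -/
abbrev F5 (gb c : TG T) : Prop := Z 272 (gb⁻¹ * e 16 * gb * (e 16)⁻¹) ∧ Z 272 c ∧
  gb * X c * X (gb⁻¹ * e 16 * gb * (e 16)⁻¹) * gb * c⁻¹ = 1 ∧ (∀ k : TG T, k ^ 2 ^ 4 = 1) ∧
  aS' * ax * aS'⁻¹ = ax⁻¹ ∧ Z 384 c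

theorem f50 : F5 (T := TU ub0 ut0) (e 256) (e 0) := BD.of (by decide +kernel)
theorem f51 : F5 (T := TU ub1 ut1) (e 352) (e 4) := BD.of (by decide +kernel)

/-- `r = x γ' x⁻¹ = (x gb x⁻¹) (x gb⁻¹ γ' x⁻¹)` acts by `tr` -/
abbrev F6 (ta tr : ℕ) (gb : TG T) : Prop := Z 272 (gb⁻¹ * e 256) ∧ (e 256 : TG T) * e 256 = 1 ∧
  ∀ k : TG T, (lq tr k : TG T) = lq ta (X (gb⁻¹ * e 256) * k * (X (gb⁻¹ * e 256))⁻¹)

theorem f600 : F6 (T := TU ub0 ut0) ua00 ua00 (e 256) := BD.of (by decide +kernel)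
theorem f601 : F6 (T := TU ub0 ut0) ua01 ua01 (e 256) := BD.of (by decide +kernel)
theorem f610 : F6 (T := TU ub1 ut1) ua10 ur10 (e 352) := BD.of (by decide +kernel)
theorem f611 : F6 (T := TU ub1 ut1) ua11 ur11 (e 352) := BD.of (by decide +kernel)

/-- the element with the same index -/
noncomputable def cv {T' : Tab} [Fact T'.OK] (k : TG T) : TG T' := e k.v

omit [Fact T.OK] in
instance evCv {T' : Tab} [Fact T'.OK] (k : TG T) {m : ℕ} [EV k m] :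
    EV (cv k : TG T') (Nat.mod m T'.n) := ⟨by rw [← EV.h (a := k)]; rfl⟩

noncomputable abbrev gU : List (TG T) := es [512, 256, 128, 64, 32, 16, 8, 4, 2, 1]

/-- `T' = TS` is the extension of `T = TU` by `e 1024` acting by `tr` -/
abbrev F7 (T T' : Tab) [Fact T.OK] [Fact T'.OK] (tr ty : ℕ) : Prop :=
  ((cv (1 : TG T) : TG T') = 1 ∧ (e 1024 : TG T') ^ 2 = 1 ∧ ¬ Z 1024 (e 1024 : TG T')) ∧
  (∀ k : TG T, Z 1024 (cv k : TG T') ∧ cv (cv k : TG T') = k ∧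
    (∀ u ∈ gU, (cv (u * k) : TG T') = cv u * cv k) ∧
    (k = 1 ∨ ∃ g ∈ gU, True ∧ (g⁻¹ * k).v < k.v ∧ True) ∧
    (e 1024 * cv k * (e 1024)⁻¹ : TG T') = cv (lq tr k : TG T) ∧
    ¬ ∀ u ∈ gU, k⁻¹ * u * k = lq tr u) ∧
  ∀ k : TG T', (Z 1024 k → cv (cv k : TG T) = k) ∧ (Z 1024 k ∨ Z 1024 (k * (e 1024)⁻¹)) ∧
    (Z 1408 k → Z 1024 k ∧ Z 384 (cv k : TG T) ∧ κ k = κ (cv k : TG T)) ∧
    (Z 1536 k → Z 1024 k ∧ Z 512 (cv k : TG T) ∧ (lq ty k : TG T') = cv (lq ty (cv k : TG T) : TG T)) ∧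
    (Z 1296 k → Z 1024 k ∧ Z 272 (cv k : TG T) ∧ X k = cv (X (cv k : TG T)))

theorem f700 : F7 (TU ub0 ut0) (TS ub0 ut0 ua00) ua00 uy0 := BD.of (by decide +kernel)
theorem f701 : F7 (TU ub0 ut0) (TS ub0 ut0 ua01) ua01 uy0 := BD.of (by decide +kernel)
theorem f710 : F7 (TU ub1 ut1) (TS ub1 ut1 ur10) ur10 uy1 := BD.of (by decide +kernel)
theorem f711 : F7 (TU ub1 ut1) (TS ub1 ut1 ur11) ur11 uy1 := BD.of (by decide +kernel)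

/-- `ψ` embeds the table `TU` of `⟨φ(SA), γ, y γ y⁻¹⟩`, the analogue of `Y13.St` -/
structure SU (φ : DA →* G) (y : G) (O : Subgroup G) (ψ : TG T →* G) (ty : ℕ) : Prop
    extends AB φ y O where
  inj1 : Function.Injective ψ
  sk : ∀ k, Z 384 k → ψ k = φ (κ k)
  yp : ∀ k, Z 512 k → y * ψ k * y⁻¹ = ψ (lq ty k)
  xr : ∀ k, Z 272 k → φ ax * ψ k * (φ ax)⁻¹ = ψ (X k)
  nψ : ∀ k, ∀ o ∈ O, ψ k * o * (ψ k)⁻¹ ∈ O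

theorem fDA2 : (∀ k : DA, (Z 32 k ∨ Z 32 (k * ab⁻¹)) ∧ k ^ 48 = 1) ∧
    Z 32 ax ∧ Z 32 aq ∧ Z 32 aS' ∧ Z 32 aT ∧ Z 32 az := BD.of (by decide +kernel)

namespace AB
variable {φ : DA →* G} {y : G} {O : Subgroup G} (H : AB φ y O)
include H

/-- uniqueness of the decomposition `φ k * o` -/
theorem uq {a a' : DA} {o o' : G} (ho : o ∈ O) (ho' : o' ∈ O) (h : φ a * o = φ a' * o') :
    a = a' ∧ o = o' := by
  obtain rfl : a = a' := inv_mul_eq_one.1 (H.dO _ (by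
    rw [map_mul, map_inv, show (φ a)⁻¹ * φ a' = o * o'⁻¹ by rw [← mul_inv_eq_iff_eq_mul.2 h.symm]; group]
    exact mul_mem ho (inv_mem ho')))
  exact ⟨rfl, mul_left_cancel h⟩

/-- an element of `O` mapping an element of `φ(DA)` into `φ(DA)` fixes it -/
theorem oc {o : G} (ho : o ∈ O) {a a' : DA} (h : o * φ a * o⁻¹ = φ a') : a' = a :=
  (H.uq (o := (φ a)⁻¹ * o * (φ a)⁻¹⁻¹ * o⁻¹) (mul_mem (map_inv φ a ▸ H.nO a⁻¹ o ho) (inv_mem ho))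
    (one_mem O) (by rw [mul_one, ← h]; group)).1.symm

/-- an element of `O` centralising `b` centralises `φ(DA)` -/
theorem call {o : G} (ho : o ∈ O) (h : Commute o (φ ab)) (k : DA) : Commute o (φ k) :=
  (fDA2.1 k).1.elim (fun hk => H.iO k hk o ho) fun hk => by
    simpa using (H.iO _ hk o ho).mul_right h

end AB

end Cfsg.Agent.SM
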